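import Cfsg.Agent.H284.AltComp

/-!
# S3092: the alternating row (helper295)

`X = A_m` in the situation `Four X A`: `A = A_n`, `m = n + 4`.
-/

set_option autoImplicit false

namespace Cfsg.Agent.H295.FourAlt

open Equiv Equiv.Perm Subgroup Cfsg Cfsg.Agent.SignalizersComponents
open Cfsg.Agent.SignalizersComponents.Components Cfsg.Agent.H284.AltComp

universe u v

/-- an involutory automorphism of `A_m` with a component in its centralizer -/
theorem exists_inv {m : ℕ} (hm : 5 ≤ m) {X : Type u} [Group X]
    (e : X ≃* ↥(alternatingGroup (Fin m))) {z : MulAut X} (hzz : z * z = 1) (hz1 : z ≠ 1)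
    {L : Subgroup X} (hL : ∀ l ∈ L, z l = l) (hc : IsComponent (L.subgroupOf (fixedSubgroup z))) :
    ∃ s : Perm (Fin m), (∀ i, s (s i) = i) ∧ (∃ i, s i ≠ i) ∧
      (∀ a : X, ((e (z a) : ↥(alternatingGroup (Fin m))) : Perm (Fin m)) =
        s * ((e a : ↥(alternatingGroup (Fin m))) : Perm (Fin m)) * s⁻¹) ∧
      5 ≤ Fintype.card (Fx s) ∧
      (∀ g : X, g ∈ L ↔ ∀ i, s i ≠ i → ((e g : ↥(alternatingGroup (Fin m))) : Perm (Fin m)) i = i) ∧
      Nonempty (↥L ≃* ↥(alternatingGroup (Fx s))) := by
  classical
  set y : MulAut ↥(alternatingGroup (Fin m)) := (e.symm.trans z).trans e with hy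
  have hy' : ∀ a, y a = e (z (e.symm a)) := fun a => rfl
  have hyy : y * y = 1 := by
    ext a
    rw [MulAut.mul_apply, hy', hy', e.symm_apply_apply]
    have h1 : z (z (e.symm a)) = e.symm a := by
      have := congrArg (fun f : MulAut X => f (e.symm a)) hzz
      exact this
    rw [h1, e.apply_symm_apply]
    rfl
  have hfix : (fixedSubgroup z).map e.toMonoidHom = fixedSubgroup y := by
    ext a
    constructor
    · rintro ⟨b, hb, rfl⟩
      change y (e b) = e b
      rw [hy', e.symm_apply_apply, show z b = b from hb]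
    · intro ha
      refine ⟨e.symm a, ?_, e.apply_symm_apply a⟩
      change z (e.symm a) = e.symm a
      have h1 : y a = a := ha
      rw [hy'] at h1
      exact e.injective (by rw [e.apply_symm_apply]; exact h1)
  have hLf : L ≤ fixedSubgroup z := fun l hl => hL l hl
  have eL : ↥(L.subgroupOf (fixedSubgroup z)) ≃* ↥L := subgroupOfEquivOfLe hLf
  -- degree six
  have h3 : m = 6 → ∃ a : ↥(alternatingGroup (Fin m)), a * a * a = 1 ∧ a ≠ 1 ∧ y a = a := by
    intro h6
    have eB : ↥L ≃* ↥(L.map e.toMonoidHom) := e.subgroupMap _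
    have hB : ¬ Group.IsSolvable ↥(L.map e.toMonoidHom) := by
      intro h
      exact quasisimple_not_isSolvable hc.2
        (Group.isSolvable_of_isSolvable_injective (f := (eL.trans eB).toMonoidHom)
          (eL.trans eB).injective)
    obtain ⟨a, haB, ha, ha1⟩ := exists_three h6 hB
    refine ⟨a, ha, ha1, ?_⟩
    obtain ⟨l, hl, rfl⟩ := haB
    change y (e l) = e l
    rw [hy', e.symm_apply_apply, hL l hl]
  obtain ⟨s, hs⟩ := exists_conj hm y h3
  have hsa : ∀ a : X, ((e (z a) : ↥(alternatingGroup (Fin m))) : Perm (Fin m)) =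
        s * ((e a : ↥(alternatingGroup (Fin m))) : Perm (Fin m)) * s⁻¹ := by
    intro a
    rw [← hs, hy', e.symm_apply_apply]
  have hss : s * s = 1 := by
    apply eq_one_of_comm (by omega)
    intro a
    have h1 : (((y * y) a : ↥(alternatingGroup (Fin m))) : Equiv.Perm (Fin m)) = a := by rw [hyy]; rfl
    rw [MulAut.mul_apply, hs, hs] at h1
    refine Eq.trans ?_ h1
    group
  have hs2 : ∀ i, s (s i) = i := fun i => congrArg (fun p : Perm (Fin m) => p i) hss
  have hfs : fixedSubgroup y = CA s := by
    ext a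
    constructor
    · intro ha
      have ha' : y a = a := ha
      refine mem_subgroupOf.2 (mem_centralizer_singleton_iff.2 ?_)
      have h1 := hs a
      rw [ha', eq_mul_inv_iff_mul_eq] at h1
      exact h1
    · intro ha
      have ha' := mem_centralizer_singleton_iff.1 (mem_subgroupOf.1 ha)
      change y a = a
      apply Subtype.ext
      rw [hs, ← ha', mul_inv_cancel_right]
  have hs1 : ∃ i, s i ≠ i := by
    by_contra hno
    push Not at hno
    have h1 : s = 1 := Equiv.ext hno
    apply hz1
    ext a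
    have h2 := hsa a
    rw [h1, one_mul, inv_one, mul_one] at h2
    exact e.injective (Subtype.ext h2)
  let φ : ↥(fixedSubgroup z) ≃* ↥(CA s) := (e.subgroupMap (fixedSubgroup z)).trans
    (MulEquiv.subgroupCongr (hfix.trans hfs))
  have hφ : ∀ a : ↥(fixedSubgroup z), ((φ a : ↥(CA s)) : ↥(alternatingGroup (Fin m))) = e (a : X) :=
    fun a => rfl
  have hB := isComponent_map_equiv φ hc
  obtain ⟨h1, h5⟩ := comp_eq hs2 hB
  refine ⟨s, hs2, hs1, hsa, h5, ?_, ?_⟩
  · intro g
    constructor
    · intro hg i hi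
      have h2 : φ ⟨g, hLf hg⟩ ∈ (rho s).ker := by
        rw [← h1]
        exact mem_map_of_mem _ (mem_subgroupOf.2 hg)
      exact (mem_ker s).1 h2 i hi
    · intro hg
      have h2 : e g ∈ CA s := by
        rw [mem_CA]
        intro i
        by_cases hi : s i = i
        · rw [hi]
          by_contra hne
          have h3 := hg _ hne
          have h4 := (e g : Perm (Fin m)).injective h3
          rw [h4] at hne
          exact hne hi
        · have h3 : s (s i) ≠ s i := fun h => hi (s.injective h)
          rw [hg i hi, hg (s i) h3]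
      have h3 : g ∈ fixedSubgroup z := by
        rw [← hfs, ← hfix] at h2
        obtain ⟨b, hb, hbe⟩ := h2
        rwa [← e.injective hbe]
      have h4 : φ ⟨g, h3⟩ ∈ (rho s).ker := (mem_ker s).2 hg
      rw [← h1] at h4
      obtain ⟨b, hb, hbe⟩ := h4
      have h5 : b = ⟨g, h3⟩ := φ.injective hbe
      rw [h5] at hb
      exact mem_subgroupOf.1 hb
  · exact ⟨eL.symm.trans (((φ.subgroupMap _).trans (MulEquiv.subgroupCongr h1)).trans
      (kerEquiv s).symm)⟩

/-- two even permutation actions with the same fixed group have the same moved points -/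
theorem moved_le {m : ℕ} {X : Type u} [Group X] (e : X ≃* ↥(alternatingGroup (Fin m)))
    {L : Subgroup X} {s t : Perm (Fin m)} (h5 : 5 ≤ Fintype.card (Fx s))
    (hs : ∀ g : X, g ∈ L ↔ ∀ i, s i ≠ i → ((e g : ↥(alternatingGroup (Fin m))) : Perm (Fin m)) i = i)
    (ht : ∀ g : X, g ∈ L ↔ ∀ i, t i ≠ i → ((e g : ↥(alternatingGroup (Fin m))) : Perm (Fin m)) i = i)
    {i : Fin m} (hi : t i ≠ i) : s i ≠ i := by
  intro hsi
  have hex : ∀ S : Finset (Fx s), S.card < 5 → ∃ j, j ∉ S := by
    intro S hS
    by_contra hno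
    push Not at hno
    have h1 : (Finset.univ : Finset (Fx s)) ⊆ S := fun j _ => hno j
    have h2 := Finset.card_le_card h1
    rw [Finset.card_univ] at h2
    omega
  obtain ⟨j, hj⟩ := hex {⟨i, hsi⟩} (by rw [Finset.card_singleton]; norm_num)
  obtain ⟨k, hk⟩ := hex {⟨i, hsi⟩, j} (lt_of_le_of_lt Finset.card_le_two (by norm_num))
  simp only [Finset.mem_insert, Finset.mem_singleton, not_or] at hj hk
  have hji : (j : Fin m) ≠ i := fun h => hj (Subtype.ext h)
  have hki : (k : Fin m) ≠ i := fun h => hk.1 (Subtype.ext h)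
  have hkj : (k : Fin m) ≠ j := fun h => hk.2 (Subtype.ext h)
  have hev : swap i (j : Fin m) * swap i (k : Fin m) ∈ alternatingGroup (Fin m) := by
    rw [mem_alternatingGroup, Equiv.Perm.sign_mul, sign_swap (Ne.symm hji), sign_swap (Ne.symm hki)]
    decide
  have hg : e.symm ⟨_, hev⟩ ∈ L := by
    rw [hs]
    intro l hl
    rw [e.apply_symm_apply]
    have h1 : l ≠ i := fun h => hl (by rw [h]; exact hsi)
    have h2 : l ≠ j := fun h => hl (by rw [h]; exact j.2)
    have h3 : l ≠ k := fun h => hl (by rw [h]; exact k.2)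
    change swap i (j : Fin m) (swap i (k : Fin m) l) = l
    rw [swap_apply_of_ne_of_ne h1 h3, swap_apply_of_ne_of_ne h1 h2]
  have h4 := (ht _).1 hg i hi
  rw [e.apply_symm_apply] at h4
  change swap i (j : Fin m) (swap i (k : Fin m) i) = i at h4
  rw [swap_apply_left, swap_apply_of_ne_of_ne hki hkj] at h4
  exact hki h4

/-- the permutation inducing an automorphism is unique -/
theorem perm_unique {m : ℕ} (hm : 5 ≤ m) {X : Type u} [Group X]
    (e : X ≃* ↥(alternatingGroup (Fin m))) {z : MulAut X} {s t : Perm (Fin m)}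
    (hs : ∀ a : X, ((e (z a) : ↥(alternatingGroup (Fin m))) : Perm (Fin m)) =
        s * ((e a : ↥(alternatingGroup (Fin m))) : Perm (Fin m)) * s⁻¹)
    (ht : ∀ a : X, ((e (z a) : ↥(alternatingGroup (Fin m))) : Perm (Fin m)) =
        t * ((e a : ↥(alternatingGroup (Fin m))) : Perm (Fin m)) * t⁻¹) : s = t := by
  have h1 : t⁻¹ * s = 1 := by
    apply eq_one_of_comm (by omega)
    intro a
    have h2 := (hs (e.symm a)).symm.trans (ht (e.symm a))
    rw [e.apply_symm_apply] at h2
    calc t⁻¹ * s * (a : Perm (Fin m)) * (t⁻¹ * s)⁻¹ = t⁻¹ * (s * (a : Perm (Fin m)) * s⁻¹) * t := by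
          group
      _ = t⁻¹ * (t * (a : Perm (Fin m)) * t⁻¹) * t := by rw [h2]
      _ = a := by group
  exact (inv_mul_eq_one.1 h1).symm

/-- **The alternating row.** -/
theorem row {m : ℕ} (hm : 5 ≤ m) {X : Type u} [Group X]
    (e : X ≃* ↥(alternatingGroup (Fin m))) {L : Subgroup X} {W : Subgroup (MulAut X)}
    (fix : ∀ z ∈ W, ∀ l ∈ L, z l = l)
    (conj : ∀ u ∈ centralizer (L : Set X), MulAut.conj u ∈ W)
    (comp : ∀ z ∈ W, z * z = 1 → z ≠ 1 →
      (L.subgroupOf (fixedSubgroup z)).Normal ∧ IsComponent (L.subgroupOf (fixedSubgroup z)))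
    {x y : MulAut X} (xW : x ∈ W) (yW : y ∈ W) (xx : x * x = 1) (yy : y * y = 1)
    (xy : x * y = y * x) (x1 : x ≠ 1) (y1 : y ≠ 1) (ne : x ≠ y) :
    ∃ n : ℕ, 5 ≤ n ∧ m = n + 4 ∧ Nonempty (↥L ≃* ↥(alternatingGroup (Fin n))) := by
  classical
  have hxyxy : (x * y) * (x * y) = 1 := by
    calc (x * y) * (x * y) = (x * y) * (y * x) := by rw [← xy]
      _ = x * (y * y) * x := by group
      _ = 1 := by rw [yy, mul_one, xx]
  have hxy1 : x * y ≠ 1 := by
    intro h
    apply ne
    calc x = x * (y * y) := by rw [yy, mul_one]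
      _ = (x * y) * y := by group
      _ = y := by rw [h, one_mul]
  obtain ⟨s, hs2, ⟨i, hi⟩, hsx, h5, hsL, ⟨eL⟩⟩ := exists_inv hm e xx x1 (fix x xW) (comp x xW xx x1).2
  obtain ⟨t, ht2, -, htx, h5t, htL, -⟩ := exists_inv hm e yy y1 (fix y yW) (comp y yW yy y1).2
  obtain ⟨r, hr2, -, hrx, h5r, hrL, -⟩ := exists_inv hm e hxyxy hxy1
    (fix _ (mul_mem xW yW)) (comp _ (mul_mem xW yW) hxyxy hxy1).2
  have hrst : r = s * t := by
    refine perm_unique hm e hrx ?_
    intro a
    rw [MulAut.mul_apply, hsx, htx]
    group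
  have hst : s * t = t * s := by
    rw [← hrst]
    refine perm_unique hm e hrx ?_
    intro a
    rw [xy, MulAut.mul_apply, htx, hsx]
    group
  have hti : t i ≠ i := moved_le e h5t htL hsL hi
  have hri : s (t i) ≠ i := by
    have h1 := moved_le e h5r hrL hsL hi
    rw [hrst] at h1
    exact h1
  have hsti : s (t i) ≠ t i := moved_le e h5 hsL htL (i := t i) (fun h => hti (t.injective h))
  have hcm : ∀ j, s (t j) = t (s j) := fun j => congrArg (fun p : Perm (Fin m) => p j) hst
  have hne1 : s i ≠ t i := by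
    intro h
    apply hri
    rw [← h, hs2]
  -- the double transposition
  set u : Perm (Fin m) := swap i (s i) * swap (t i) (s (t i)) with hu
  have huev : u ∈ alternatingGroup (Fin m) := by
    rw [mem_alternatingGroup, hu, Equiv.Perm.sign_mul, sign_swap (Ne.symm hi), sign_swap (Ne.symm hsti)]
    decide
  have hdist : s i ≠ s (t i) := fun h => hti (s.injective h).symm
  have huu : u * u = 1 := by
    ext j
    rw [hu]
    simp only [Perm.mul_apply, Perm.one_apply]
    by_cases h1 : j = i
    · subst h1
      rw [swap_apply_of_ne_of_ne (Ne.symm hti) (Ne.symm hri), swap_apply_left,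
        swap_apply_of_ne_of_ne hne1 hdist, swap_apply_right]
    · by_cases h2 : j = s i
      · subst h2
        rw [swap_apply_of_ne_of_ne hne1 hdist, swap_apply_right,
          swap_apply_of_ne_of_ne (Ne.symm hti) (Ne.symm hri), swap_apply_left]
      · by_cases h3 : j = t i
        · subst h3
          rw [swap_apply_left, swap_apply_of_ne_of_ne hri (Ne.symm hdist), swap_apply_right,
            swap_apply_of_ne_of_ne hti (Ne.symm hne1)]
        · by_cases h4 : j = s (t i)
          · subst h4
            rw [swap_apply_right, swap_apply_of_ne_of_ne hti (Ne.symm hne1), swap_apply_left,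
              swap_apply_of_ne_of_ne hri (Ne.symm hdist)]
          · rw [swap_apply_of_ne_of_ne h3 h4, swap_apply_of_ne_of_ne h1 h2,
              swap_apply_of_ne_of_ne h3 h4, swap_apply_of_ne_of_ne h1 h2]
  have hufix : ∀ j, s j = j → u j = j := by
    intro j hj
    have h1 : j ≠ i := fun h => hi (by rw [← h]; exact hj)
    have h2 : j ≠ s i := fun h => hi (s.injective (by rw [← h]; exact hj))
    have h3 : j ≠ t i := fun h => hsti (by rw [← h]; exact hj)
    have h4 : j ≠ s (t i) := fun h => hsti (s.injective (by rw [← h]; exact hj))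
    change swap i (s i) (swap (t i) (s (t i)) j) = j
    rw [swap_apply_of_ne_of_ne h3 h4, swap_apply_of_ne_of_ne h1 h2]
  have hui : u i = s i := by
    change swap i (s i) (swap (t i) (s (t i)) i) = s i
    rw [swap_apply_of_ne_of_ne (Ne.symm hti) (Ne.symm hri), swap_apply_left]
  set u' : X := e.symm ⟨u, huev⟩ with hu'
  have heu : ((e u' : ↥(alternatingGroup (Fin m))) : Perm (Fin m)) = u := by
    rw [hu', e.apply_symm_apply]
  have hu'c : u' ∈ centralizer (L : Set X) := by
    rw [mem_centralizer_iff]
    intro l hl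
    apply e.injective
    apply Subtype.ext
    rw [map_mul, map_mul]
    change ((e l : ↥(alternatingGroup (Fin m))) : Perm (Fin m)) *
      ((e u' : ↥(alternatingGroup (Fin m))) : Perm (Fin m)) =
      ((e u' : ↥(alternatingGroup (Fin m))) : Perm (Fin m)) *
      ((e l : ↥(alternatingGroup (Fin m))) : Perm (Fin m))
    rw [heu]
    ext j
    simp only [Perm.mul_apply]
    have hl' := (hsL l).1 hl
    by_cases hj : s j = j
    · rw [hufix j hj]
      have h1 : s (((e l : ↥(alternatingGroup (Fin m))) : Perm (Fin m)) j) =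
          ((e l : ↥(alternatingGroup (Fin m))) : Perm (Fin m)) j := by
        by_contra hne
        have h2 := hl' _ hne
        have h3 := ((e l : ↥(alternatingGroup (Fin m))) : Perm (Fin m)).injective h2
        rw [h3] at hne
        exact hne hj
      rw [hufix _ h1]
    · rw [hl' j hj]
      have h1 : s (u j) ≠ u j := by
        intro h
        have h2 := hufix _ h
        have h3 : u (u j) = j := congrArg (fun p : Perm (Fin m) => p j) huu
        rw [h3] at h2
        rw [← h2] at h
        exact hj h
      rw [hl' _ h1]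
  have hz := conj u' hu'c
  have hzz : MulAut.conj u' * MulAut.conj u' = 1 := by
    rw [← map_mul]
    have h1 : u' * u' = 1 := by
      apply e.injective
      apply Subtype.ext
      rw [map_mul, map_one]
      change ((e u' : ↥(alternatingGroup (Fin m))) : Perm (Fin m)) *
        ((e u' : ↥(alternatingGroup (Fin m))) : Perm (Fin m)) = 1
      rw [heu, huu]
    rw [h1, map_one]
  have hu1 : u ≠ 1 := by
    intro h
    apply hi
    rw [← hui, h]
    rfl
  have hcu : ∀ a : X, ((e (MulAut.conj u' a) : ↥(alternatingGroup (Fin m))) : Perm (Fin m)) =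
        u * ((e a : ↥(alternatingGroup (Fin m))) : Perm (Fin m)) * u⁻¹ := by
    intro a
    rw [MulAut.conj_apply, map_mul, map_mul, map_inv]
    change ((e u' : ↥(alternatingGroup (Fin m))) : Perm (Fin m)) *
      ((e a : ↥(alternatingGroup (Fin m))) : Perm (Fin m)) *
      ((e u' : ↥(alternatingGroup (Fin m))) : Perm (Fin m))⁻¹ = _
    rw [heu]
  have hz1 : MulAut.conj u' ≠ 1 := by
    intro h
    apply hu1
    refine perm_unique hm e hcu ?_
    intro a
    rw [h, one_mul, inv_one, mul_one]
    rfl
  obtain ⟨w, hw2, -, hwx, h5w, hwL, -⟩ := exists_inv hm e hzz hz1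
    (fix _ hz) (comp _ hz hzz hz1).2
  have hwu : w = u := perm_unique hm e hwx hcu
  -- the moved points of `s` are the four points
  have hmv : ∀ j, s j ≠ j → j = i ∨ j = s i ∨ j = t i ∨ j = s (t i) := by
    intro j hj
    by_contra hno
    push Not at hno
    have h1 := moved_le e h5w hwL hsL hj
    apply h1
    rw [hwu]
    change swap i (s i) (swap (t i) (s (t i)) j) = j
    rw [swap_apply_of_ne_of_ne hno.2.2.1 hno.2.2.2, swap_apply_of_ne_of_ne hno.1 hno.2.1]
  have hcard : Fintype.card (Mv s) = 4 := by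
    have h1 : (Finset.univ.filter fun j : Fin m => s j ≠ j) = {i, s i, t i, s (t i)} := by
      ext j
      rw [Finset.mem_filter]
      simp only [Finset.mem_univ, true_and, Finset.mem_insert, Finset.mem_singleton]
      constructor
      · exact hmv j
      · rintro (rfl | rfl | rfl | rfl)
        · exact hi
        · exact fun h => hi (s.injective h)
        · exact hsti
        · exact fun h => hsti (s.injective h)
    rw [Fintype.card_subtype, h1, Finset.card_insert_of_notMem, Finset.card_insert_of_notMem,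
      Finset.card_insert_of_notMem, Finset.card_singleton]
    · rw [Finset.mem_singleton]
      exact Ne.symm hsti
    · simp only [Finset.mem_insert, Finset.mem_singleton, not_or]
      exact ⟨hne1, hdist⟩
    · simp only [Finset.mem_insert, Finset.mem_singleton, not_or]
      exact ⟨Ne.symm hi, Ne.symm hti, Ne.symm hri⟩
  have hsp := card_split s
  rw [hcard, Fintype.card_fin] at hsp
  exact ⟨Fintype.card (Fx s), h5, by omega, ⟨eL.trans (Fintype.equivFin (Fx s)).altCongrHom⟩⟩

end Cfsg.Agent.H295.FourAlt
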