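import Cfsg.Agent.H283.FourStd
import Cfsg.Agent.H295.FourAlt

/-!
# S3092: the alternating row in the form of `H283.FourStd.Rows` (helper295)
-/

set_option autoImplicit false

namespace Cfsg.Agent.H295.FourAlt

open Cfsg Subgroup Cfsg.Agent.H283.FourStd

universe u

/-- **`Rows.alt`** -/
theorem alt_row {X A : Type u} [Group X] [Finite X] [IsSimpleGroup X] [Group A] {m : ℕ} (hm : 5 ≤ m)
    (he : Nonempty (X ≃* ↥(alternatingGroup (Fin m)))) (hF : Nonempty (Four X A)) : Concl X A := by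
  obtain ⟨e⟩ := he
  obtain ⟨F⟩ := hF
  obtain ⟨n, hn, hmn, ⟨f⟩⟩ :=
    row hm e F.fix F.conj F.comp F.xW F.yW F.xx F.yy F.xy F.x1 F.y1 F.ne
  subst hmn
  exact Or.inl ⟨n, hn, ⟨F.e.symm.trans f⟩, ⟨e⟩⟩

end Cfsg.Agent.H295.FourAlt
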