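import Mathlib

/-!
# No involution of `A₉` commutes with an element of order 7 (helper295)
-/

set_option autoImplicit false

namespace Cfsg.Agent.H295.Fin

open Subgroup Equiv Equiv.Perm

/-- the cycle `(0 1 2 3 4 5 6)` -/
def c9 : Perm (Fin 9) := swap 0 1 * swap 1 2 * swap 2 3 * swap 3 4 * swap 4 5 * swap 5 6

theorem cycleType_c9 : c9.cycleType = {7} := by decide +kernel

theorem comm_c9 {s : Perm (Fin 9)} (hc : s * c9 = c9 * s) (hss : s * s = 1) (hs : sign s = 1) : s = 1 := by
  have h1 : ∀ x, s (c9 x) = c9 (s x) := fun x => congrArg (fun f : Perm (Fin 9) => f x) hc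
  have hn : ∀ (n : ℕ) x, s ((c9 ^ n) x) = (c9 ^ n) (s x) := by
    intro n x
    have h2 : s * c9 ^ n = c9 ^ n * s := (show Commute s c9 from hc).pow_right n
    exact congrArg (fun f : Perm (Fin 9) => f x) h2
  have h2 : ∀ x, s (s x) = x := fun x => congrArg (fun f : Perm (Fin 9) => f x) hss
  have k0 : c9 (s 0) ≠ s 0 := by
    rw [← h1]
    exact fun h => absurd (s.injective h) (by decide)
  have d1 : ∀ k : Fin 9, c9 k ≠ k → (c9 ^ (k : ℕ)) 0 = k := by decide +kernel
  have d2 : ∀ k : Fin 9, c9 k ≠ k → (c9 ^ (k : ℕ)) k = 0 → k = 0 := by decide +kernel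
  have s0 : s 0 = 0 := by
    apply d2 _ k0
    rw [← hn, d1 _ k0, h2]
  have si : ∀ k : Fin 9, c9 k ≠ k → s k = k := by
    intro k hk
    rw [← d1 k hk, hn, s0]
  have f7 : c9 (s 7) = s 7 := by rw [← h1]; congr 1
  have f8 : c9 (s 8) = s 8 := by rw [← h1]; congr 1
  have d3 : ∀ k : Fin 9, c9 k = k → k = 7 ∨ k = 8 := by decide
  have e7 : s 7 ≠ s 8 := fun h => absurd (s.injective h) (by decide)
  have d4 : ∀ k : Fin 9, c9 k ≠ k ∨ k = 7 ∨ k = 8 := by decide
  rcases d3 _ f7 with h7 | h7
  · have h8 : s 8 = 8 := by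
      rcases d3 _ f8 with h | h
      · exact absurd (h7.trans h.symm) e7
      · exact h
    ext k
    rcases d4 k with h | rfl | rfl
    · rw [si k h]; rfl
    · rw [h7]; rfl
    · rw [h8]; rfl
  · have h8 : s 8 = 7 := by rw [← h7, h2]
    exfalso
    have h9 : s = swap 7 8 := by
      ext k
      rcases d4 k with h | rfl | rfl
      · rw [si k h]
        have d5 : ∀ k : Fin 9, c9 k ≠ k → swap 7 8 k = k := by decide
        rw [d5 k h]
      · rw [h7, swap_apply_left]
      · rw [h8, swap_apply_right]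
    rw [h9, sign_swap (by decide)] at hs
    exact absurd hs (by decide)

theorem comm_seven {s y : Perm (Fin 9)} (hy : orderOf y = 7) (hc : s * y = y * s) (hss : s * s = 1) (hs : sign s = 1) :
    s = 1 := by
  have hct : y.cycleType = {7} := by
    obtain ⟨n, hn⟩ := cycleType_prime_order (σ := y) (by rw [hy]; norm_num)
    rw [hy] at hn
    have h3 : y.cycleType.sum ≤ Fintype.card (Fin 9) := by
      rw [sum_cycleType]
      exact Finset.card_le_univ _
    rw [hn, Multiset.sum_replicate, Fintype.card_fin, smul_eq_mul] at h3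
    have h4 : n = 0 := by omega
    rw [hn, h4]
    rfl
  obtain ⟨g, hg⟩ := isConj_iff.1 (isConj_iff_cycleType_eq.2 (hct.trans cycleType_c9.symm))
  have h1 : g * s * g⁻¹ = 1 := by
    apply comm_c9
    · rw [← hg]
      calc g * s * g⁻¹ * (g * y * g⁻¹) = g * (s * y) * g⁻¹ := by group
        _ = g * (y * s) * g⁻¹ := by rw [hc]
        _ = g * y * g⁻¹ * (g * s * g⁻¹) := by group
    · calc g * s * g⁻¹ * (g * s * g⁻¹) = g * (s * s) * g⁻¹ := by group
        _ = 1 := by rw [hss]; group
    · rw [Perm.sign_mul, Perm.sign_mul, hs, mul_one, ← Perm.sign_mul, mul_inv_cancel, Perm.sign_one]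
  calc s = g⁻¹ * (g * s * g⁻¹) * g := by group
    _ = 1 := by rw [h1]; group

/-- no involution of `A₉` commutes with an element of order 7 -/
theorem no_inner_nine {X : Type*} [Group X] (e : X ≃* ↥(alternatingGroup (Fin 9))) {x t : X} (hx : orderOf x = 7)
    (htt : t * t = 1) (hc : t * x = x * t) : t = 1 := by
  have h1 : ((e t : ↥(alternatingGroup (Fin 9))) : Perm (Fin 9)) = 1 := by
    refine comm_seven (y := ((e x : ↥(alternatingGroup (Fin 9))) : Perm (Fin 9))) ?_ ?_ ?_ ?_
    · rw [Subgroup.orderOf_coe, MulEquiv.orderOf_eq, hx]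
    · have := congrArg (fun z => ((e z : ↥(alternatingGroup (Fin 9))) : Perm (Fin 9))) hc
      simpa using this
    · have := congrArg (fun z => ((e z : ↥(alternatingGroup (Fin 9))) : Perm (Fin 9))) htt
      simpa using this
    · exact mem_alternatingGroup.1 (e t).2
  have h2 : e t = 1 := Subtype.ext h1
  rw [← e.symm_apply_apply t, h2, map_one]

end Cfsg.Agent.H295.Fin
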