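import Cfsg.Agent.H295.A7Seven

/-!
# The configuration of a standard component `A`, `A / Z(A) = A₇`, in a simple group `X` (helper295)

`Std α A` : `α` an involutory automorphism of `X` (possibly inner), `A` a quasisimple normal subgroup of `C_X(α)`,
`A / Z(A) ≅ A₇`, and `A` is normal in `C_X(u)` for all the involutions `u` of `C_X(A)`.
-/

set_option autoImplicit false

namespace Cfsg.Agent.H295.A7

open Subgroup Cfsg Equiv Equiv.Perm

universe u v

/-- the configuration -/
structure Std {X : Type u} [Group X] (α : MulAut X) (A : Subgroup X) : Prop where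
  inv : ∀ x, α (α x) = x
  ne : ∃ x, α x ≠ x
  fix : ∀ a ∈ A, α a = a
  norm : ∀ g, α g = g → g ∈ normalizer (A : Set X)
  std : ∀ u ∈ centralizer (A : Set X), u ≠ 1 → u * u = 1 → ∀ g, g * u = u * g → g ∈ normalizer (A : Set X)
  qs : IsQuasisimple A
  quo : Nonempty ((↥A ⧸ center ↥A) ≃* ↥(alternatingGroup (Fin 7)))

variable {X : Type u} {Y : Type v} [Group X] [Group Y]

theorem mem_normalizer_map (e : X ≃* Y) {A : Subgroup X} {y : Y} :
    y ∈ normalizer ((A.map e.toMonoidHom : Subgroup Y) : Set Y) ↔ e.symm y ∈ normalizer (A : Set X) := by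
  have hm : ∀ z : Y, z ∈ A.map e.toMonoidHom ↔ e.symm z ∈ A := by
    intro z
    constructor
    · rintro ⟨a, ha, rfl⟩
      change e.symm (e a) ∈ A
      rw [e.symm_apply_apply]; exact ha
    · intro hz
      exact ⟨e.symm z, hz, e.apply_symm_apply z⟩
  rw [mem_normalizer_iff, mem_normalizer_iff]
  constructor
  · intro h a
    have h1 := h (e a)
    rw [hm, hm, map_mul, map_mul, map_inv, e.symm_apply_apply] at h1
    exact h1
  · intro h z
    have h1 := h (e.symm z)
    rw [hm, hm, map_mul, map_mul, map_inv]
    exact h1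

theorem mem_centralizer_map (e : X ≃* Y) {A : Subgroup X} {y : Y} :
    y ∈ centralizer ((A.map e.toMonoidHom : Subgroup Y) : Set Y) ↔ e.symm y ∈ centralizer (A : Set X) := by
  rw [mem_centralizer_iff, mem_centralizer_iff]
  constructor
  · intro h a ha
    have h1 := h (e a) ⟨a, ha, rfl⟩
    have h2 := congrArg e.symm h1
    rwa [map_mul, map_mul, e.symm_apply_apply] at h2
  · rintro h _ ⟨a, ha, rfl⟩
    have h1 := h a ha
    apply e.symm.injective
    change e.symm (e a * y) = e.symm (y * e a)
    rw [map_mul, map_mul, e.symm_apply_apply, h1]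

theorem isQuasisimple_congr {K : Type u} {L : Type v} [Group K] [Group L] (e : K ≃* L) (h : IsQuasisimple K) :
    IsQuasisimple L ∧ Nonempty ((K ⧸ center K) ≃* (L ⧸ center L)) := by
  have hc : (center K).map (e : K →* L) = center L := by
    ext x
    constructor
    · rintro ⟨y, hy, rfl⟩
      rw [mem_center_iff]
      intro g
      have h1 := (mem_center_iff.1 hy) (e.symm g)
      have h2 := congrArg e h1
      rw [map_mul, map_mul, MulEquiv.apply_symm_apply] at h2
      exact h2
    · intro hx
      refine ⟨e.symm x, ?_, e.apply_symm_apply x⟩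
      change e.symm x ∈ center K
      rw [mem_center_iff]
      intro g
      apply e.injective
      rw [map_mul, map_mul, MulEquiv.apply_symm_apply]
      exact (mem_center_iff.1 hx) (e g)
  let q : (K ⧸ center K) ≃* (L ⧸ center L) := QuotientGroup.congr _ _ e hc
  refine ⟨⟨?_, ?_⟩, ⟨q⟩⟩
  · have h1 := h.1.commutator_eq_top
    rw [Group.isPerfect_def, commutator_def, ← map_top_of_surjective (e : K →* L) e.surjective,
      ← Subgroup.map_commutator, ← commutator_def, h1]
  · have := h.2
    exact q.symm.isSimpleGroup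

theorem Std.map (e : X ≃* Y) {α : MulAut X} {A : Subgroup X} (h : Std α A) :
    Std (MulAut.congr e α) (A.map e.toMonoidHom) where
  inv y := by
    change e (α (e.symm (e (α (e.symm y))))) = y
    rw [e.symm_apply_apply, h.inv, e.apply_symm_apply]
  ne := by
    obtain ⟨x, hx⟩ := h.ne
    refine ⟨e x, fun h1 => hx ?_⟩
    change e (α (e.symm (e x))) = e x at h1
    rw [e.symm_apply_apply] at h1
    exact e.injective h1
  fix := by
    rintro _ ⟨a, ha, rfl⟩
    change e (α (e.symm (e a))) = e a
    rw [e.symm_apply_apply, h.fix a ha]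
  norm y hy := by
    rw [mem_normalizer_map]
    apply h.norm
    change e (α (e.symm y)) = y at hy
    apply e.injective
    rw [hy, e.apply_symm_apply]
  std y hy h1 hyy g hg := by
    rw [mem_centralizer_map] at hy
    rw [mem_normalizer_map]
    refine h.std _ hy (fun h2 => h1 ?_) ?_ _ ?_
    · rw [← e.apply_symm_apply y, h2, _root_.map_one]
    · rw [← _root_.map_mul, hyy, _root_.map_one]
    · rw [← _root_.map_mul, hg, _root_.map_mul]
  qs := (isQuasisimple_congr (A.equivMapOfInjective e.toMonoidHom e.injective) h.qs).1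
  quo := by
    obtain ⟨q⟩ := (isQuasisimple_congr (A.equivMapOfInjective e.toMonoidHom e.injective) h.qs).2
    obtain ⟨p⟩ := h.quo
    exact ⟨q.symm.trans p⟩

/-- no such configuration -/
def No (X : Type u) [Group X] : Prop := ∀ (α : MulAut X) (A : Subgroup X), ¬ Std α A

theorem No.congr (e : X ≃* Y) (h : No X) : No Y := fun _ _ hs => h _ _ (hs.map e.symm)

theorem Std.exists_rep {α : MulAut X} {A : Subgroup X} (h : Std α A) : ∃ f, Rep A f := by
  obtain ⟨e⟩ := h.quo
  exact A7.exists_rep h.qs e

/-- the configuration with `C_X(A)` of odd order: `α` is then an outer automorphism -/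
structure Outer {X : Type u} [Group X] (α : MulAut X) (A : Subgroup X) : Prop extends Std α A where
  odd : ∀ u ∈ centralizer (A : Set X), u * u = 1 → u = 1

theorem Outer.map (e : X ≃* Y) {α : MulAut X} {A : Subgroup X} (h : Outer α A) :
    Outer (MulAut.congr e α) (A.map e.toMonoidHom) where
  toStd := h.toStd.map e
  odd y hy hyy := by
    rw [mem_centralizer_map] at hy
    have h1 := h.odd _ hy (by rw [← _root_.map_mul, hyy, _root_.map_one])
    rw [← e.apply_symm_apply y, h1, _root_.map_one]

theorem Outer.not_inner {α : MulAut X} {A : Subgroup X} (h : Outer α A) (k : X) (hc : ∀ x : X, (∀ y : X, x * y = y * x) → x = 1) :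
    α ≠ MulAut.conj k := by
  rintro rfl
  -- `k² ` is central
  have hkk : k * k = 1 := by
    apply hc
    intro y
    have h1 := h.inv y
    change k * (k * y * k⁻¹) * k⁻¹ = y at h1
    calc k * k * y = (k * (k * y * k⁻¹) * k⁻¹) * (k * k) := by group
      _ = y * (k * k) := by rw [h1]
  have hk : k ∈ centralizer (A : Set X) := by
    rw [mem_centralizer_iff]
    intro a ha
    have h1 := h.fix a ha
    change k * a * k⁻¹ = a at h1
    rw [mul_inv_eq_iff_eq_mul] at h1
    exact h1.symm
  have h2 := h.odd k hk hkk
  obtain ⟨x, hx⟩ := h.ne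
  apply hx
  rw [h2, _root_.map_one]
  rfl

end Cfsg.Agent.H295.A7
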