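import Cfsg.Agent.H295.StdRed
import Cfsg.Agent.H295.A7Std
import Cfsg.Agent.H295.A7Nine
import Cfsg.Agent.S2119

/-!
# The configuration `Std` from a standard subgroup (helper295)
-/

set_option autoImplicit false

namespace Cfsg.Agent.H295.A7

open Subgroup Cfsg Equiv Equiv.Perm Cfsg.Agent.SignalizersComponents

universe u v

variable {G : Type u} [Group G] {A X : Subgroup G} [hX : X.Normal]

theorem conjNormal_eq {t : G} {y : ↥X} (h : (MulAut.conjNormal t : MulAut ↥X) y = y) : (y : G) * t = t * y := by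
  have h2 := congrArg Subtype.val h
  rw [MulAut.conjNormal_apply] at h2
  exact (mul_inv_eq_iff_eq_mul.1 h2).symm

omit hX in
theorem mem_norm_sub {g : ↥X} (hg : (g : G) ∈ normalizer (A : Set G)) :
    g ∈ normalizer ((A.subgroupOf X : Subgroup ↥X) : Set ↥X) := by
  rw [mem_normalizer_iff]
  intro n
  exact mem_normalizer_iff.1 hg n

theorem std_of [Finite G] (hA : IsStandardSubgroup A) (hc : centralizer (X : Set G) = ⊥) (hAX : A ≤ X) {t : G}
    (ht : orderOf t = 2) (htA : t ∈ centralizer (A : Set G))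
    (e : Nonempty ((↥A ⧸ center ↥A) ≃* ↥(alternatingGroup (Fin 7)))) :
    Std (MulAut.conjNormal t : MulAut ↥X) (A.subgroupOf X) where
  inv y := by
    have htt : t * t = 1 := by rw [← pow_two, ← ht, pow_orderOf_eq_one]
    apply Subtype.ext
    rw [MulAut.conjNormal_apply, MulAut.conjNormal_apply]
    calc t * (t * (y : G) * t⁻¹) * t⁻¹ = (t * t) * y * (t * t)⁻¹ := by group
      _ = y := by rw [htt]; group
  ne := by
    by_contra h
    push Not at h
    have h1 : t ∈ centralizer (X : Set G) := by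
      rw [mem_centralizer_iff]
      intro y hy
      exact conjNormal_eq (h ⟨y, hy⟩)
    rw [hc, mem_bot] at h1
    rw [h1, orderOf_one] at ht
    omega
  fix a ha := by
    apply Subtype.ext
    rw [MulAut.conjNormal_apply, ← mem_centralizer_iff.1 htA a ha, mul_inv_cancel_right]
  norm g hg := by
    apply mem_norm_sub
    apply StandardTrichotomy.centralizer_involution_le hA ht htA
    rw [mem_centralizer_singleton_iff]
    exact conjNormal_eq hg
  std u hu hu1 huu g hg := by
    apply mem_norm_sub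
    have : Fact (Nat.Prime 2) := ⟨Nat.prime_two⟩
    have h1 : orderOf (u : G) = 2 := by
      rw [Subgroup.orderOf_coe]
      exact orderOf_eq_prime (by rw [pow_two, huu]) hu1
    have h2 : (u : G) ∈ centralizer (A : Set G) := by
      rw [mem_centralizer_iff] at hu ⊢
      intro a ha
      exact congrArg Subtype.val (hu ⟨a, hAX ha⟩ ha)
    apply StandardTrichotomy.centralizer_involution_le hA h1 h2
    rw [mem_centralizer_singleton_iff]
    exact congrArg Subtype.val hg
  qs := (isQuasisimple_congr (subgroupOfEquivOfLe hAX).symm hA.1).1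
  quo := by
    obtain ⟨f⟩ := (isQuasisimple_congr (subgroupOfEquivOfLe hAX).symm hA.1).2
    obtain ⟨e⟩ := e
    exact ⟨f.symm.trans e⟩

/-- `C_G(A)` has 2-rank at least 2 -/
theorem not_rank [Finite G] {H : Subgroup G} {a b : G} (ha : a ∈ H) (hb : b ∈ H) (ha2 : orderOf a = 2) (hb2 : orderOf b = 2)
    (hab : a ≠ b) (hc : a * b = b * a) : ¬ PRankLE 2 1 ↥H := by
  intro h
  have haa : a * a = 1 := by rw [← pow_two, ← ha2, pow_orderOf_eq_one]
  have hbb : b * b = 1 := by rw [← pow_two, ← hb2, pow_orderOf_eq_one]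
  obtain ⟨E, hE⟩ : ∃ E, E = closure ({⟨a, ha⟩, ⟨b, hb⟩} : Set ↥H) := ⟨_, rfl⟩
  have hcomm : IsMulCommutative ↥E := by
    rw [hE]
    refine Subgroup.isMulCommutative_closure ?_
    rintro x (rfl | rfl) y (rfl | rfl)
    · rfl
    · exact Subtype.ext hc
    · exact Subtype.ext hc.symm
    · rfl
  have hxy : ∀ x ∈ E, ∀ y ∈ E, x * y = y * x := fun x hx y hy =>
    congrArg Subtype.val (hcomm.is_comm.comm ⟨x, hx⟩ ⟨y, hy⟩)
  have hsq : ∀ x ∈ E, x ^ 2 = 1 := by
    intro x hx
    have hx' := hx
    rw [hE] at hx'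
    refine Subgroup.closure_induction (p := fun x _ => x ^ 2 = 1) ?_ ?_ ?_ ?_ hx'
    · rintro x (rfl | rfl)
      · exact Subtype.ext (by rw [pow_two]; exact haa)
      · exact Subtype.ext (by rw [pow_two]; exact hbb)
    · exact one_pow 2
    · intro x y hx hy ihx ihy
      rw [← hE] at hx hy
      rw [(show Commute x y from hxy x hx y hy).mul_pow, ihx, ihy, one_mul]
    · intro x hx ih
      rw [inv_pow, ih, inv_one]
  have h1 := h E hcomm hsq
  have haE : (⟨a, ha⟩ : ↥H) ∈ E := hE ▸ subset_closure (Or.inl rfl)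
  have hbE : (⟨b, hb⟩ : ↥H) ∈ E := hE ▸ subset_closure (Or.inr rfl)
  have ha1 : a ≠ 1 := by
    rintro rfl
    rw [orderOf_one] at ha2
    omega
  have hb1 : b ≠ 1 := by
    rintro rfl
    rw [orderOf_one] at hb2
    omega
  let f : Fin 3 → ↥E := ![1, ⟨⟨a, ha⟩, haE⟩, ⟨⟨b, hb⟩, hbE⟩]
  have hf : Function.Injective f := by
    have v1 : ((f 0 : ↥E) : ↥H) = 1 := rfl
    have g0 : (((f 0 : ↥E) : ↥H) : G) = 1 := rfl
    have g1 : (((f 1 : ↥E) : ↥H) : G) = a := rfl
    have g2 : (((f 2 : ↥E) : ↥H) : G) = b := rfl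
    intro i j hij
    have h2 : (((f i : ↥E) : ↥H) : G) = (((f j : ↥E) : ↥H) : G) := by rw [hij]
    fin_cases i <;> fin_cases j
    · rfl
    · exact absurd (h2 : (1 : G) = a).symm ha1
    · exact absurd (h2 : (1 : G) = b).symm hb1
    · exact absurd (h2 : a = 1) ha1
    · rfl
    · exact absurd (h2 : a = b) hab
    · exact absurd (h2 : b = 1) hb1
    · exact absurd (h2 : b = a).symm hab
    · rfl
  have hfin : Finite ↥E := inferInstance
  have h3 := Nat.card_le_card_of_injective f hf
  rw [Nat.card_eq_fintype_card, Fintype.card_fin] at h3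
  omega

end Cfsg.Agent.H295.A7
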