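import Cfsg.Agent.H295.A7Comp
import Cfsg.Agent.H295.A7ON
import Cfsg.Agent.H295.A7Rows
import Cfsg.Agent.H295.A7HeB
import Cfsg.Agent.H7.JOneStd
import Cfsg.Agent.TypeM.FactsLy
import Cfsg.Agent.CTwoTab.Co3
import Cfsg.Agent.CTwoTab.He
import Cfsg.Agent.CTwoTab.HN
import Cfsg.Agent.ONType.PslCard
import Cfsg.Agent.S2065
import Cfsg.Agent.S2071
import Cfsg.Agent.S2076

/-!
# The rows `X` sporadic, not on the `C₂` list, `A / Z(A) = A₇` (helper295)

`J₁, Co₃, McL, He, O'N, Ly, HN`: the only configuration is `X = He`, `|Z(A)| = 3`, `C_X(A)` without involutions.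
-/

set_option autoImplicit false

namespace Cfsg.Agent.H295.A7

open Subgroup Cfsg Equiv Equiv.Perm

universe u v

section

variable {X : Type u} [Group X] {α : MulAut X} {A : Subgroup X}

/-- one class of involutions -/
theorem Std.outer_of_class (h : Std α A) (t : X)
    (one : ∀ s : X, s * s = 1 → s ≠ 1 → ∃ g : X, g * t * g⁻¹ = s)
    (hX : ∀ (β : MulAut X) (B : Subgroup X), Std β B → t ∈ centralizer (B : Set X) → False) : Outer α A := by
  refine ⟨h, fun u hu huu => ?_⟩
  by_contra hu1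
  obtain ⟨g, hg⟩ := one u huu hu1
  refine hX _ _ (h.map (MulAut.conj g⁻¹)) ?_
  rw [mem_centralizer_map]
  have e2 : (MulAut.conj g⁻¹ : MulAut X).symm t = u := by
    rw [MulEquiv.symm_apply_eq, MulAut.conj_apply, ← hg]; group
  rw [e2]
  exact hu

theorem Outer.false_of_inner (h : Outer α A) [IsSimpleGroup X] (k : X) (hk : α = MulAut.conj k) : False :=
  h.not_inner k (ONRow.center_trivial h.qs) hk

end

theorem inner_of_out {G : Type u} [Group G] (h : Nat.card (Cfsg.Out G) = 1) (α : MulAut G) : ∃ k, α = MulAut.conj k := by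
  have h1 : (Inn G).index = 1 := h
  rw [Subgroup.index_eq_one] at h1
  obtain ⟨k, hk⟩ : α ∈ Inn G := by rw [h1]; exact mem_top _
  exact ⟨k, hk.symm⟩

/-! ### `McL`, `Ly` -/

theorem alt_simple {n : ℕ} (hn : 5 ≤ n) : IsSimpleGroup ↥(alternatingGroup (Fin n)) :=
  alternatingGroup.isSimpleGroup (by simpa using hn)

theorem mt_outer {X : Type u} [Group X] [Finite X] {n : ℕ} (hn : 8 ≤ n) (L : TypeM.Two.MT n X) {α : MulAut X}
    {A : Subgroup X} (h : Std α A) : Outer α A := by
  refine h.outer_of_class L.t L.one fun β B hB ht => ?_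
  obtain ⟨-, h1, h2, h3⟩ := hB.inner ht L.t_ne L.t_mul_t
  have hs := alt_simple (n := n) (by omega)
  have hcard : 2 * Nat.card ↥(alternatingGroup (Fin n)) = n.factorial := by
    have hnt : Nontrivial (Fin n) := by
      rw [← Fintype.one_lt_card_iff_nontrivial, Fintype.card_fin]
      omega
    have h6 := two_mul_nat_card_alternatingGroup (α := Fin n)
    rwa [Nat.card_perm, Nat.card_fin] at h6
  have h8 : (8 : ℕ).factorial ≤ n.factorial := Nat.factorial_le hn
  have h8' : (8 : ℕ).factorial = 40320 := by decide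
  refine false_of_proj h1 h2 h3 (S := ↥(alternatingGroup (Fin n))) ?_ (by omega) (H799.MTSyl.proj L)
    (H799.MTSyl.proj_surj L) ?_
  · exact alternatingGroup.center_eq_bot (by rw [Nat.card_eq_fintype_card, Fintype.card_fin]; omega)
  · intro x
    refine ⟨1, ?_⟩
    rw [pow_one, pow_two]
    apply Subtype.ext
    change (x : ↥(centralizer ({L.t} : Set X))) * x = 1
    rcases (H799.MTSyl.proj_ker L x).1 x.2 with h4 | h4
    · rw [h4, one_mul]
    · rw [h4]
      exact L.K.z_mul_z


theorem mcl_row {X : Type u} [Group X] (hX : Spor.IsoMcL X) {α : MulAut X} {A : Subgroup X} (h : Std α A) : False := by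
  obtain ⟨hfin, -, -, ⟨L⟩⟩ := TypeM.FactsMcL.facts hX
  exact mcl hX (mt_outer le_rfl L h)

theorem ly_row {X : Type u} [Group X] (hX : Spor.IsoLy X) {α : MulAut X} {A : Subgroup X} (h : Std α A) : False := by
  obtain ⟨hfin, hs, -, ⟨L⟩⟩ := TypeM.FactsLy.facts hX
  have h1 := mt_outer (by norm_num) L h
  obtain ⟨e⟩ := hX
  have h2 := h1.map e
  obtain ⟨k, hk⟩ := inner_of_out S2076.result (MulAut.congr e α)
  have : IsSimpleGroup Spor.Ly := e.symm.isSimpleGroup
  exact h2.false_of_inner k hk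

/-! ### `O'N` -/

namespace ONRow

open Cfsg.Spor (ON)
open Cfsg.Agent.SporadicB.ON45Word (on)
open Cfsg.Agent.KFacts.ON.Struct Cfsg.Agent.KFacts.ON.Qs Cfsg.Agent.KFacts.ON.Words
open Cfsg.Agent.KFacts.ON.Cent (finite_ON)
open Cfsg.Agent.GTwoRows.ONRow (C J_le_C)
open Cfsg.Agent.ONType.Psl (PSL3)

theorem outer {α : MulAut ON} {A : Subgroup ON} (h : Std α A) : Outer α A := by
  have := finite_ON
  refine h.outer_of_class (on .f) (fun s hs hs1 => ?_) fun β B hB ht => ?_
  · obtain ⟨g, hg⟩ := isConj_iff.1 (KFacts.ON.OneClass.one_class hs hs1).symm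
    exact ⟨g, hg⟩
  · obtain ⟨hle, -, -, -⟩ := hB.inner ht f_ne_one ff
    have hBJ : B ≤ J := by
      have h1 : ⁅B, B⁆ = B := Subgroup.isPerfect_iff.mp hB.qs.1
      rw [← h1, ← UGT.I34.ONBal.L_eq onRec]
      exact Subgroup.commutator_mono hle hle
    have hn : ∀ g ∈ J, g ∈ normalizer (B : Set ON) := fun g hg =>
      hB.std _ ht f_ne_one ff g (mem_centralizer_singleton_iff.1 (J_le_C hg))
    obtain ⟨h1, ⟨f⟩⟩ := sub_qs hBJ hB.qs
    obtain ⟨e⟩ := hB.quo
    obtain ⟨π, hπ, hker⟩ := exists_proj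
    have hs : IsSimpleGroup PSL3 := KFacts.He.TwoA.simple_PSL3
    refine false_of_proj (sub_normal hn) h1 ⟨f.symm.trans e⟩ (S := PSL3) ?_ ?_ π hπ (by
      rw [hker]; exact GTwoRows.ONRow.isPGroup_center)
    · refine CTwoTab.center_eq_bot_of_simple fun hc => ?_
      have h9 : Nat.Prime (Nat.card PSL3) := by
        letI : CommGroup PSL3 := { (inferInstance : Group PSL3) with mul_comm := fun a b => hc.is_comm.comm a b }
        exact IsSimpleGroup.prime_card
      rw [ONType.PslCard.card_PSL3] at h9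
      norm_num at h9
    · rw [ONType.PslCard.card_PSL3]; norm_num

end ONRow

theorem on_row {X : Type u} [Group X] (hX : Spor.IsoON X) {α : MulAut X} {A : Subgroup X} (h : Std α A) : False := by
  obtain ⟨e⟩ := hX
  exact ONRow.main (ONRow.outer (h.map e))

/-! ### `J₁, Co₃, HN, He` -/

theorem j1_row {X : Type u} [Group X] [Finite X] [hs : IsSimpleGroup X] (hX : Spor.IsoJ1 X) {α : MulAut X}
    {A : Subgroup X} (h : Std α A) : False := by
  have h1 : Outer α A := by
    refine h.outer_of_inner fun u hu1 huu B hB hq hf => ?_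
    obtain ⟨h2, -⟩ := H7.JOneStd.std_of_iso hX (z := u) (orderOf_eq_prime (by rw [pow_two, huu]) hu1) B
      ⟨Subgroup.Normal.isSubnormal hB, hq⟩
    have h3 := card_dvd hf
    rw [h2] at h3
    norm_num at h3
  obtain ⟨e⟩ := hX
  obtain ⟨k, hk⟩ := inner_of_out S2065.result (MulAut.congr e α)
  have : IsSimpleGroup Spor.J1 := e.symm.isSimpleGroup
  exact (h1.map e).false_of_inner k hk

theorem co3_row {X : Type u} [Group X] [hs : IsSimpleGroup X] (hX : Spor.IsoCo3 X) {α : MulAut X}
    {A : Subgroup X} (h : Std α A) : False := by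
  obtain ⟨e⟩ := hX
  have h1 := (h.map e).outer_of_compC2 CTwoTab.Co3.compC2
  obtain ⟨k, hk⟩ := inner_of_out S2071.result (MulAut.congr e α)
  have : IsSimpleGroup Spor.Co3 := e.symm.isSimpleGroup
  exact h1.false_of_inner k hk

theorem hn_row {X : Type u} [Group X] (hX : Spor.IsoHN X) {α : MulAut X}
    {A : Subgroup X} (h : Std α A) : False :=
  hn hX (h.outer_of_compC2 (CTwoTab.HN.compC2_of_iso hX))

theorem he_row {X : Type u} [Group X] (hX : Spor.IsoHe X) {α : MulAut X}
    {A : Subgroup X} (h : Std α A) : Outer α A ∧ Nat.card (center ↥A) = 3 := by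
  have h1 := h.outer_of_compC2 (CTwoTab.He.compC2_of_iso hX)
  exact ⟨h1, he hX h1⟩

end Cfsg.Agent.H295.A7
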