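import Cfsg.Agent.H295.A7Std
import Cfsg.Agent.SignalizersComponents.ComponentImage
import Cfsg.Agent.CpQuot.Quo
import Cfsg.Agent.CTwoTab.Good
import Cfsg.Agent.NotResT.All
import Cfsg.Agent.NotResT.Listed

/-!
# `A₇` as a component (helper295)

* `alt7_not_cp` : `A₇` is not a `C₂`-group;
* `false_of_comps` : no normal quasisimple `A`, `A / Z(A) = A₇`, in a group `H` in which the components of `H / O(H)` are
  `C₂`-groups;
* `false_of_proj` : no such `A` in a group `H` with a projection onto a simple group, kernel a 2-group.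
-/

set_option autoImplicit false

namespace Cfsg.Agent.H295.A7

open Subgroup Cfsg Equiv Equiv.Perm

universe u v

theorem alt7_not_cp : ¬ IsCpSimple 2 ↥(alternatingGroup (Fin 7)) :=
  NotResT.NotC.alt_not_cp NotResT.Inst.chevCharTwo NotResT.Listed.listedCard (Or.inl rfl)

theorem card_alt7 : Nat.card ↥(alternatingGroup (Fin 7)) = 2520 := by
  rw [nat_card_alternatingGroup, Nat.card_eq_fintype_card, Fintype.card_fin]
  rfl

section

variable {H : Type u} [Group H] [Finite H] {A : Subgroup H}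

omit [Finite H] in
theorem card_dvd (e : Nonempty ((↥A ⧸ center ↥A) ≃* ↥(alternatingGroup (Fin 7)))) : 2520 ∣ Nat.card A := by
  obtain ⟨e⟩ := e
  rw [Subgroup.card_eq_card_quotient_mul_card_subgroup (center ↥A), Nat.card_congr e.toEquiv, card_alt7]
  exact dvd_mul_right _ _

theorem false_of_comps (hn : A.Normal) (hq : IsQuasisimple ↥A)
    (e : Nonempty ((↥A ⧸ center ↥A) ≃* ↥(alternatingGroup (Fin 7))))
    (hC : ∀ L : Subgroup (H ⧸ pPrimeCore 2 H), IsComponent L → IsCpSimple 2 (↥L ⧸ center ↥L)) : False := by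
  have hA : IsComponent A := ⟨Subgroup.Normal.isSubnormal hn, hq⟩
  rcases SignalizersComponents.ComponentImage.map_eq_bot_or_isComponent
    (QuotientGroup.mk'_surjective (pPrimeCore 2 H)) hA with h | h
  · have h1 : A ≤ pPrimeCore 2 H := by
      intro a ha
      have h2 : QuotientGroup.mk' (pPrimeCore 2 H) a ∈ A.map (QuotientGroup.mk' (pPrimeCore 2 H)) := ⟨a, ha, rfl⟩
      rw [h, mem_bot] at h2
      exact (QuotientGroup.eq_one_iff a).1 h2
    have h2 : (Nat.card ↥(pPrimeCore 2 H)).Coprime 2 := Lib.Cores.pPrimeCore_coprime 2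
    have h3 : 2 ∣ Nat.card ↥(pPrimeCore 2 H) :=
      ((show 2 ∣ 2520 by norm_num).trans (card_dvd e)).trans (Subgroup.card_dvd_of_le h1)
    rw [Nat.coprime_comm, Nat.Prime.coprime_iff_not_dvd Nat.prime_two] at h2
    exact h2 h3
  · have h1 := hC _ h
    have hnt : Nontrivial ↥(A.map (QuotientGroup.mk' (pPrimeCore 2 H))) :=
      SignalizersComponents.Components.quasisimple_nontrivial h.2
    obtain ⟨f⟩ := CpQuot.Quo.nonempty_equiv hq ((QuotientGroup.mk' (pPrimeCore 2 H)).subgroupMap A)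
      ((QuotientGroup.mk' (pPrimeCore 2 H)).subgroupMap_surjective A)
    obtain ⟨e⟩ := e
    exact alt7_not_cp ((CpQuot.Congr.isCpSimple_iff (f.symm.trans e) 2).1 h1)

theorem false_of_proj (hn : A.Normal) (hq : IsQuasisimple ↥A)
    (e : Nonempty ((↥A ⧸ center ↥A) ≃* ↥(alternatingGroup (Fin 7)))) {S : Type v} [Group S] [IsSimpleGroup S]
    (hz : center S = ⊥) (hc : Nat.card S ≠ 2520) (π : H →* S) (hπ : Function.Surjective π) (hk : IsPGroup 2 π.ker) :
    False := by
  have h1 : (A.map π).Normal := hn.map π hπ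
  rcases h1.eq_bot_or_eq_top with h | h
  · have h2 : A ≤ π.ker := by
      intro a ha
      have h3 : π a ∈ A.map π := ⟨a, ha, rfl⟩
      rw [h, mem_bot] at h3
      exact h3
    have h3 : 3 ∣ Nat.card ↥π.ker := ((show 3 ∣ 2520 by norm_num).trans (card_dvd e)).trans (Subgroup.card_dvd_of_le h2)
    have : Fact (Nat.Prime 2) := ⟨Nat.prime_two⟩
    obtain ⟨k, hk⟩ := hk.exists_card_eq
    rw [hk] at h3
    exact absurd ((Nat.prime_dvd_prime_iff_eq Nat.prime_three Nat.prime_two).1 (Nat.prime_three.dvd_of_dvd_pow h3))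
      (by norm_num)
  · let f : ↥A →* S := π.comp A.subtype
    have hf : Function.Surjective f := by
      intro s
      obtain ⟨a, ha, hs⟩ : s ∈ A.map π := by rw [h]; exact mem_top s
      exact ⟨⟨a, ha⟩, hs⟩
    obtain ⟨g⟩ := CpQuot.Quo.nonempty_equiv hq f hf
    obtain ⟨e⟩ := e
    apply hc
    rw [← card_alt7, ← Nat.card_congr e.toEquiv, Nat.card_congr g.toEquiv, hz]
    exact (Nat.card_congr QuotientGroup.quotientBot.toEquiv).symm

end

section

variable {X : Type u} [Group X] {α : MulAut X} {A : Subgroup X}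

/-- `A` as a subgroup of an overgroup normalising it -/
theorem sub_normal {C : Subgroup X} (hn : ∀ g ∈ C, g ∈ normalizer (A : Set X)) : (A.subgroupOf C).Normal :=
  ⟨fun n hx g => by
    rw [mem_subgroupOf] at hx ⊢
    exact (mem_normalizer_iff.1 (hn g g.2) n).1 hx⟩

theorem sub_qs {C : Subgroup X} (hle : A ≤ C) (hq : IsQuasisimple ↥A) : IsQuasisimple ↥(A.subgroupOf C) ∧
    Nonempty ((↥A ⧸ center ↥A) ≃* (↥(A.subgroupOf C) ⧸ center ↥(A.subgroupOf C))) :=
  isQuasisimple_congr (subgroupOfEquivOfLe hle).symm hq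

/-- components of `C_X(α)` -/
theorem Std.false_of_fix [Finite X] (h : Std α A)
    (hC : ∀ L : Subgroup (↥(fixedSubgroup α) ⧸ pPrimeCore 2 ↥(fixedSubgroup α)), IsComponent L →
      IsCpSimple 2 (↥L ⧸ center ↥L)) : False := by
  have hle : A ≤ fixedSubgroup α := fun a ha => h.fix a ha
  obtain ⟨h1, ⟨f⟩⟩ := sub_qs hle h.qs
  obtain ⟨e⟩ := h.quo
  exact false_of_comps (sub_normal fun g hg => h.norm g hg) h1 ⟨f.symm.trans e⟩ hC

/-- the centralizer of an involution of `C_X(A)` -/
theorem Std.inner (h : Std α A) {u : X} (hu : u ∈ centralizer (A : Set X)) (hu1 : u ≠ 1) (huu : u * u = 1) :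
    A ≤ centralizer ({u} : Set X) ∧ (A.subgroupOf (centralizer ({u} : Set X))).Normal ∧
      IsQuasisimple ↥(A.subgroupOf (centralizer ({u} : Set X))) ∧
      Nonempty ((↥(A.subgroupOf (centralizer ({u} : Set X))) ⧸ center ↥(A.subgroupOf (centralizer ({u} : Set X)))) ≃*
        ↥(alternatingGroup (Fin 7))) := by
  have hle : A ≤ centralizer ({u} : Set X) := by
    intro a ha
    rw [mem_centralizer_singleton_iff]
    exact mem_centralizer_iff.1 hu a ha
  obtain ⟨h1, ⟨f⟩⟩ := sub_qs hle h.qs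
  obtain ⟨e⟩ := h.quo
  exact ⟨hle, sub_normal fun g hg => h.std u hu hu1 huu g (mem_centralizer_singleton_iff.1 hg), h1, ⟨f.symm.trans e⟩⟩

/-- `C_X(A)` has no involution if the components of the centralizers of involutions are good -/
theorem Std.outer_of_compC2 (h : Std α A) (hX : CTwoTab.CompC2 X) : Outer α A := by
  refine ⟨h, fun u hu huu => ?_⟩
  by_contra hu1
  obtain ⟨hle, hn, hq, ⟨f⟩⟩ := h.inner hu hu1 huu
  have h1 := hX.comp u (orderOf_eq_prime (by rw [pow_two, huu]) hu1) A ⟨hle, Subgroup.Normal.isSubnormal hn, hq⟩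
  obtain ⟨e⟩ := h.quo
  exact alt7_not_cp ((CpQuot.Congr.isCpSimple_iff e 2).1 h1.1)

theorem Std.outer_of_inner (h : Std α A)
    (hX : ∀ u : X, u ≠ 1 → u * u = 1 → ∀ B : Subgroup ↥(centralizer ({u} : Set X)), B.Normal → IsQuasisimple ↥B →
      Nonempty ((↥B ⧸ center ↥B) ≃* ↥(alternatingGroup (Fin 7))) → False) : Outer α A := by
  refine ⟨h, fun u hu huu => ?_⟩
  by_contra hu1
  obtain ⟨hle, hn, hq, hf⟩ := h.inner hu hu1 huu
  exact hX u hu1 huu _ hn hq hf

end

end Cfsg.Agent.H295.A7
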