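import Cfsg.Agent.H295.A7Kill
import Cfsg.Agent.KFacts.He.RecL
import Cfsg.Agent.KFacts.He.InvolAut
import Cfsg.Agent.CTwoTab.He

/-!
# The row `X = He`, part A (helper295): `C_X(A) ∩ C_X(α) ≠ 1`
-/

set_option autoImplicit false

namespace Cfsg.Agent.H295.A7

open Subgroup Cfsg Equiv Equiv.Perm

universe u v

section transport

variable {X : Type u} {Y : Type v} [Group X] [Group Y]

theorem Rep.map {A : Subgroup X} {f : X → Perm (Fin 7)} (r : Rep A f) (e : X ≃* Y) :
    Rep (A.map e.toMonoidHom) (fun y => f (e.symm y)) where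
  mul g hg h hh := by
    rw [_root_.map_mul]
    exact r.mul _ (mem_normalizer_map e |>.1 hg) _ (mem_normalizer_map e |>.1 hh)
  ker g hg := by
    rw [mem_centralizer_map]
    exact r.ker _ (mem_normalizer_map e |>.1 hg)
  lift s hs := by
    obtain ⟨a, ha, h⟩ := r.lift s hs
    exact ⟨e a, ⟨a, ha, rfl⟩, by rw [e.symm_apply_apply]; exact h⟩
  even := by
    rintro _ ⟨a, ha, rfl⟩
    change sign (f (e.symm (e a))) = 1
    rw [e.symm_apply_apply]
    exact r.even a ha

theorem Rep.conj {A : Subgroup X} {f : X → Perm (Fin 7)} (r : Rep A f) (g : Perm (Fin 7)) :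
    Rep A (fun y => g * f y * g⁻¹) where
  mul x hx y hy := by
    rw [r.mul x hx y hy]
    group
  ker x hx := by
    rw [← r.ker x hx, mul_inv_eq_one]
    constructor
    · intro h
      exact mul_left_cancel (a := g) (by rw [h, mul_one])
    · intro h
      rw [h, mul_one]
  lift s hs := by
    obtain ⟨a, ha, h⟩ := r.lift (g⁻¹ * s * g) (by
      rw [Perm.sign_mul, Perm.sign_mul, hs, mul_one, ← Perm.sign_mul, inv_mul_cancel, Perm.sign_one])
    exact ⟨a, ha, by rw [h]; group⟩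
  even a ha := by
    rw [Perm.sign_mul, Perm.sign_mul, r.even a ha, mul_one, ← Perm.sign_mul, mul_inv_cancel, Perm.sign_one]

end transport

/-- permutations commuting with `(0 1 2)` and `(0 1 3)` fix `0, 1, 2, 3` -/
def p1 : Perm (Fin 7) := swap 0 1 * swap 1 2
def p2 : Perm (Fin 7) := swap 0 1 * swap 1 3

theorem fix_of_comm {e : Perm (Fin 7)} (h1 : e * p1 = p1 * e) (h2 : e * p2 = p2 * e) :
    e 0 = 0 ∧ e 1 = 1 ∧ e 2 = 2 ∧ e 3 = 3 := by
  have g1 : ∀ x, e (p1 x) = p1 (e x) := fun x => congrArg (fun f : Perm (Fin 7) => f x) h1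
  have g2 : ∀ x, e (p2 x) = p2 (e x) := fun x => congrArg (fun f : Perm (Fin 7) => f x) h2
  have a1 : p1 0 = 1 := by decide
  have a2 : p1 1 = 2 := by decide
  have a3 : p1 2 = 0 := by decide
  have b1 : p2 0 = 1 := by decide
  have b2 : p2 1 = 3 := by decide
  have b3 : p2 2 = 2 := by decide
  have e2 : e 2 = 2 := by
    have k1 : p2 (e 2) = e 2 := by rw [← g2, b3]
    have k2 : p1 (e 2) ≠ e 2 := by
      rw [← g1, a3]
      exact fun h => absurd (e.injective h) (by decide)
    have k3 : ∀ k : Fin 7, p2 k = k → p1 k ≠ k → k = 2 := by decide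
    exact k3 _ k1 k2
  have e0 : e 0 = 0 := by rw [← a3, g1, e2]
  have e1 : e 1 = 1 := by rw [← a1, g1, e0]
  have e3 : e 3 = 3 := by rw [← b2, g2, e1]
  exact ⟨e0, e1, e2, e3⟩

theorem not_transposition {e d : Perm (Fin 7)} (h1 : e * p1 = p1 * e) (h2 : e * p2 = p2 * e) (hd : d = (p1 * p2) * e) :
    d.cycleType ≠ {2} := by
  obtain ⟨e0, e1, e2, e3⟩ := fix_of_comm h1 h2
  intro h
  have hc : d.support.card = 2 := by rw [← sum_cycleType, h]; rfl
  have hs : ({0, 1, 2, 3} : Finset (Fin 7)) ⊆ d.support := by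
    intro x hx
    simp only [Finset.mem_insert, Finset.mem_singleton] at hx
    rw [mem_support, hd, Perm.mul_apply]
    rcases hx with rfl | rfl | rfl | rfl
    · rw [e0]; decide
    · rw [e1]; decide
    · rw [e2]; decide
    · rw [e3]; decide
  have := Finset.card_le_card hs
  rw [hc] at this
  exact absurd this (by decide)


/-! ### The Held group -/

namespace HeRow

open Cfsg.Spor Cfsg.Spor.He
open Cfsg.Agent.KFacts.He.Lv Cfsg.Agent.KFacts.He.TwoACent Cfsg.Agent.KFacts.He.TwoAPlane Cfsg.Agent.KFacts.He.RecL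
open Cfsg.Agent.UGT.Cov.Klein (Dat Can NInv Cj exists_dat)

theorem three_mem {y : Spor.He} (hy : y * gn .a = gn .a * y) (hy3 : y ^ 3 = 1) : y ∈ L := by
  rcases two hy hy with h | h | h
  · exact h
  · exact h
  · have h2 : y = (y * y) * (y * y) := by
      calc y = y ^ 3 * y := by rw [hy3, one_mul]
        _ = (y * y) * (y * y) := by simp only [pow_succ, pow_zero, one_mul, mul_assoc]
    rw [h2]
    exact mul_mem h h

theorem L_le_C : L ≤ centralizer ({gn .a} : Set Spor.He) := fun _ hx => mem_centralizer_singleton_iff.2 (L_comm_a hx)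

theorem comm_C : ⁅centralizer ({gn .a} : Set Spor.He), centralizer ({gn .a} : Set Spor.He)⁆ = L := by
  apply le_antisymm
  · rw [commutator_le]
    intro x hx y hy
    rw [mem_centralizer_singleton_iff] at hx hy
    have nl := fun (c : Spor.He) (hc : c * gn .a = gn .a * c) (l : Spor.He) (hl : l ∈ L) => norm hc hl
    have hx' : x⁻¹ * gn .a = gn .a * x⁻¹ := (show Commute x (gn .a) from hx).inv_left
    have hy' : y⁻¹ * gn .a = gn .a * y⁻¹ := (show Commute y (gn .a) from hy).inv_left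
    rw [commutatorElement_def]
    rcases two hx hy with h | h | h
    · have e : x * y * x⁻¹ * y⁻¹ = x * (y * x⁻¹ * y⁻¹) := by group
      rw [e]
      exact mul_mem h (nl y hy _ (inv_mem h))
    · exact mul_mem (nl x hx _ h) (inv_mem h)
    · rcases two hx' hy' with h' | h' | h'
      · have h'' : x ∈ L := by rw [← inv_inv x]; exact inv_mem h'
        have e : x * y * x⁻¹ * y⁻¹ = x * (y * x⁻¹ * y⁻¹) := by group
        rw [e]
        exact mul_mem h'' (nl y hy _ (inv_mem h''))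
      · have h'' : y ∈ L := by rw [← inv_inv y]; exact inv_mem h'
        exact mul_mem (nl x hx _ h'') (inv_mem h'')
      · have e : x * y * x⁻¹ * y⁻¹ = (x * y) * (x⁻¹ * y⁻¹) := by group
        rw [e]
        exact mul_mem h h'
  · conv_lhs => rw [← perf]
    exact commutator_mono L_le_C L_le_C

variable {α : MulAut Spor.He}

theorem map_C (hα : α (gn .a) = gn .a) :
    (centralizer ({gn .a} : Set Spor.He)).map α.toMonoidHom = centralizer ({gn .a} : Set Spor.He) := by
  ext y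
  constructor
  · rintro ⟨x, hx, rfl⟩
    have h2 := mem_centralizer_singleton_iff.mp hx
    rw [mem_centralizer_singleton_iff]
    change α x * gn .a = gn .a * α x
    nth_rewrite 1 [← hα]
    rw [← _root_.map_mul, h2, _root_.map_mul, hα]
  · intro hy
    have h2 := mem_centralizer_singleton_iff.mp hy
    refine ⟨α.symm y, ?_, α.apply_symm_apply y⟩
    change α.symm y ∈ centralizer ({gn .a} : Set Spor.He)
    rw [mem_centralizer_singleton_iff]
    apply α.injective
    rw [_root_.map_mul, _root_.map_mul, α.apply_symm_apply, hα, h2]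

theorem map_L (hα : α (gn .a) = gn .a) : L.map α.toMonoidHom = L := by
  conv_lhs => rw [← comm_C, map_commutator, map_C hα, comm_C]

theorem map_mem (hα : α (gn .a) = gn .a) {x : Spor.He} (hx : x ∈ L) : α x ∈ L := by
  rw [← map_L hα]
  exact ⟨x, hx, rfl⟩

/-- restriction to `L` -/
noncomputable def res (hα : α (gn .a) = gn .a) : ↥L ≃* ↥L := (α.subgroupMap L).trans (MulEquiv.subgroupCongr (map_L hα))

theorem coe_res (hα : α (gn .a) = gn .a) (x : ↥L) : (res hα x : Spor.He) = α x := rfl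

theorem res_center (hα : α (gn .a) = gn .a) {x : ↥L} (hx : x ∈ center ↥L) : res hα x ∈ center ↥L := by
  rw [mem_center_iff] at hx ⊢
  intro g
  have h1 := hx ((res hα).symm g)
  have h2 := congrArg (res hα) h1
  rwa [_root_.map_mul, _root_.map_mul, MulEquiv.apply_symm_apply] at h2

theorem res_can (hα : α (gn .a) = gn .a) {t : ↥L} (ht : Can t) : Can (res hα t) := by
  refine ⟨⟨?_, fun h => ht.1.2 ?_⟩, fun y hy => ht.2 ((res hα).symm y) ?_⟩
  · rw [← _root_.map_mul, ht.1.1, _root_.map_one]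
  · rw [mem_center_iff] at h ⊢
    intro g
    apply (res hα).injective
    rw [_root_.map_mul, _root_.map_mul]
    exact h (res hα g)
  · apply (res hα).injective
    rw [_root_.map_mul, MulEquiv.apply_symm_apply, hy]

/-- the canonical element of the coset `t V` -/
theorem exists_can {t : ↥L} (ht : NInv t) : ∃ w ∈ center ↥L, Can (t * w) := by
  obtain ⟨w, hw, l, hl⟩ := conj_c ht
  have hw' : w ∈ center ↥L := mem_center_L.2 hw
  refine ⟨w⁻¹, inv_mem hw', ?_⟩
  rw [can_iff]
  refine ⟨l, ?_⟩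
  have hc := mem_center_iff.1 (inv_mem hw')
  calc l * (t * w⁻¹) * l⁻¹ = (l * t * l⁻¹) * (l * w⁻¹ * l⁻¹) := by group
    _ = (cL * w) * (w⁻¹ * l * l⁻¹) := by rw [hl, hc l]
    _ = cL := by group

theorem can_unique {t w : ↥L} (ht : Can t) (hw : w ∈ center ↥L) (htw : Can (t * w)) : w = 1 := by
  by_contra h1
  obtain ⟨l, hl⟩ := can_iff.1 ht
  have hc := mem_center_iff.1 hw
  have hw' := mem_center_L.1 hw
  obtain ⟨y, hy, hyy⟩ := sq_cw hw' (fun h => h1 (Subtype.ext h))
  have h2 : (⟨y, hy⟩ : ↥L) * ⟨y, hy⟩ = cL * w := Subtype.ext hyy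
  apply htw.2 (l⁻¹ * ⟨y, hy⟩ * l)
  calc l⁻¹ * ⟨y, hy⟩ * l * (l⁻¹ * ⟨y, hy⟩ * l) = l⁻¹ * (⟨y, hy⟩ * ⟨y, hy⟩) * l := by group
    _ = l⁻¹ * ((l * t * l⁻¹) * w) * l := by rw [h2, hl]
    _ = t * (l⁻¹ * w) * l := by group
    _ = t * w := by rw [hc l⁻¹]; group

/-! ### `C_X(A) ∩ C_X(α) = 1` is impossible -/

section main

variable {A : Subgroup Spor.He} {f : Spor.He → Perm (Fin 7)}

/-- an involution `gn .a` fixed by `α` acts as a transposition -/
theorem trans_a (h : Outer α A) (r : Rep A f) (h1 : ∀ u ∈ centralizer (A : Set Spor.He), α u = u → u = 1)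
    (hα : α (gn .a) = gn .a) : (f (gn .a)).cycleType = {2} := by
  have := finHe'
  have hV : ∀ x : ↥L, Th x = 1 ↔ x ∈ center ↥L := by
    intro x
    rw [← MonoidHom.mem_ker, ker_Th, center_L]
  refine r.kill h.inv h.fix h.norm h1 hα (gn_mul_self _) a_ne_one L L_le_C (fun y hy hy3 => three_mem hy hy3)
    (fun x hx => map_mem hα hx) Th Th_surjective ?_ ?_ ?_
  · rw [ker_Th, ← center_L]
    exact IsPGroup.of_card (n := 2) (by rw [card_center_L]; norm_num)
  · rw [ker_Th, center_L]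
  · intro x hx h2
    exact (hV _).2 (res_center hα ((hV _).1 h2))

/-- every 2A involution fixed by `α` acts as a transposition -/
theorem trans (h : Outer α A) (r : Rep A f) (h1 : ∀ u ∈ centralizer (A : Set Spor.He), α u = u → u = 1)
    {z : Spor.He} (hz : α z = z) (hc : IsConj (gn .a) z) : (f z).cycleType = {2} := by
  obtain ⟨g, hg⟩ := isConj_iff.1 hc
  have e1 : (MulAut.conj g⁻¹ : MulAut Spor.He) z = gn .a := by
    rw [MulAut.conj_apply, ← hg]; group
  have e2 : (MulAut.conj g⁻¹ : MulAut Spor.He).symm (gn .a) = z := by rw [MulEquiv.symm_apply_eq, e1]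
  have h2 := trans_a (α := MulAut.congr (MulAut.conj g⁻¹) α) (h.map (MulAut.conj g⁻¹)) (r.map (MulAut.conj g⁻¹)) (by
    intro u hu hαu
    rw [mem_centralizer_map] at hu
    have h3 : α ((MulAut.conj g⁻¹ : MulAut Spor.He).symm u) = (MulAut.conj g⁻¹ : MulAut Spor.He).symm u := by
      apply (MulAut.conj g⁻¹ : MulAut Spor.He).injective
      rw [MulEquiv.apply_symm_apply]
      exact hαu
    have h4 := h1 _ hu h3
    rw [MulEquiv.symm_apply_eq, _root_.map_one] at h4
    exact h4) (by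
    change (MulAut.conj g⁻¹ : MulAut Spor.He) (α ((MulAut.conj g⁻¹ : MulAut Spor.He).symm (gn .a))) = gn .a
    rw [e2, hz, e1])
  rw [e2] at h2
  exact h2

theorem false_of_a (h : Outer α A) (h1 : ∀ u ∈ centralizer (A : Set Spor.He), α u = u → u = 1)
    (hα : α (gn .a) = gn .a) : False := by
  obtain ⟨f0, r0⟩ := h.exists_rep
  have hsw : (swap 5 6 : Perm (Fin 7)).cycleType = {2} := by decide
  obtain ⟨g, hg⟩ := isConj_iff.1 (isConj_iff_cycleType_eq.2 ((trans_a h r0 h1 hα).trans hsw.symm))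
  obtain ⟨f, hf⟩ : ∃ f : Spor.He → Perm (Fin 7), f = fun y => g * f0 y * g⁻¹ := ⟨_, rfl⟩
  have r : Rep A f := hf ▸ r0.conj g
  have hfa : f (gn .a) = swap 5 6 := by rw [hf]; exact hg
  have haN := h.norm _ hα
  -- elements of order 3
  have lift3 : ∀ p : Perm (Fin 7), sign p = 1 → p ^ 3 = 1 → p * swap 5 6 = swap 5 6 * p →
      ∃ y ∈ A, f y = p ∧ y ∈ L := by
    intro p hs hp3 hpc
    obtain ⟨y, hyA, hy⟩ := r.lift p hs
    have hyN := (le_normalizer : A ≤ _) hyA
    have hyα := h.fix y hyA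
    refine ⟨y, hyA, hy, three_mem ?_ ?_⟩
    · refine r.inj h.norm h1 (by rw [_root_.map_mul, hyα, hα]) (by rw [_root_.map_mul, hyα, hα]) ?_
      rw [r.mul _ hyN _ haN, r.mul _ haN _ hyN, hy, hfa, hpc]
    · refine r.inj h.norm h1 (by rw [_root_.map_pow, hyα]) (_root_.map_one α) ?_
      rw [r.map_pow hyN, hy, hp3, r.map_one']
  obtain ⟨y1, hA1, hf1, hL1⟩ := lift3 p1 (by decide) (by decide) (by decide)
  obtain ⟨y2, hA2, hf2, hL2⟩ := lift3 p2 (by decide) (by decide) (by decide)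
  have hN1 := (le_normalizer : A ≤ _) hA1
  have hN2 := (le_normalizer : A ≤ _) hA2
  obtain ⟨d, hd⟩ : ∃ d, d = y1 * y2 := ⟨_, rfl⟩
  have hdA : d ∈ A := hd ▸ mul_mem hA1 hA2
  have hdL : d ∈ L := hd ▸ mul_mem hL1 hL2
  have hdN := (le_normalizer : A ≤ _) hdA
  have hfd : f d = p1 * p2 := by rw [hd, r.mul _ hN1 _ hN2, hf1, hf2]
  have hdd : d * d = 1 := by
    refine r.inj h.norm h1 (by rw [_root_.map_mul, h.fix d hdA]) (_root_.map_one α) ?_
    rw [r.mul _ hdN _ hdN, hfd, r.map_one']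
    decide
  have hnc : ∀ x ∈ L, x ∉ V ∨ (f x * p1 = p1 * f x ∧ f x * p2 = p2 * f x) ∨ α x ≠ x := by
    intro x hx
    by_cases hxV : x ∈ V
    · by_cases hxα : α x = x
      · right; left
        have hxN := h.norm x hxα
        rw [← hf1, ← hf2, ← r.mul _ hxN _ hN1, ← r.mul _ hN1 _ hxN, ← r.mul _ hxN _ hN2, ← r.mul _ hN2 _ hxN,
          mem_V.1 hxV y1 hL1, mem_V.1 hxV y2 hL2]
        exact ⟨rfl, rfl⟩
      · exact Or.inr (Or.inr hxα)
    · exact Or.inl hxV
  have hni : NInv (⟨d, hdL⟩ : ↥L) := by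
    refine ⟨Subtype.ext hdd, fun hc => ?_⟩
    rw [mem_center_L] at hc
    rcases hnc d hdL with h2 | h2 | h2
    · exact h2 hc
    · rw [hfd] at h2
      exact absurd h2.1 (by decide)
    · exact h2 (h.fix d hdA)
  obtain ⟨w, hw, hcan⟩ := exists_can hni
  -- `w` is fixed by `α`
  have hrd : res hα ⟨d, hdL⟩ = ⟨d, hdL⟩ := Subtype.ext (h.fix d hdA)
  have hrw : res hα w = w := by
    have h2 := res_can hα hcan
    rw [_root_.map_mul, hrd] at h2
    have h3 : (⟨d, hdL⟩ : ↥L) * res hα w = ⟨d, hdL⟩ * w * (w⁻¹ * res hα w) := by group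
    rw [h3] at h2
    have h4 := can_unique hcan (mul_mem (inv_mem hw) (res_center hα hw)) h2
    exact (inv_mul_eq_one.1 h4).symm
  have hαw : α (w : Spor.He) = w := congrArg Subtype.val hrw
  have hwV : (w : Spor.He) ∈ V := mem_center_L.1 hw
  have hwN := h.norm _ hαw
  obtain ⟨k, hk, -⟩ := of_can hcan
  have ht := trans h r h1 (z := d * w) (by rw [_root_.map_mul, h.fix d hdA, hαw]) (isConj_iff.2 ⟨k, hk⟩)
  rcases hnc w w.2 with h2 | ⟨h2, h3⟩ | h2
  · exact h2 hwV
  · exact not_transposition h2 h3 (by rw [r.mul _ hdN _ hwN, hfd]) ht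
  · exact h2 hαw

/-- **`C_X(A) ∩ C_X(α) ≠ 1`** -/
theorem exists_ne_one (h : Outer α A) : ∃ u ∈ centralizer (A : Set Spor.He), α u = u ∧ u ≠ 1 := by
  by_contra hn
  push Not at hn
  have h2 : α * α = 1 := by ext x; exact h.inv x
  obtain ⟨g, hg⟩ := KFacts.He.InvolAut.fix_a α h2
  refine false_of_a (h.map (MulAut.conj g⁻¹)) (fun u hu hαu => ?_) ?_
  · rw [mem_centralizer_map] at hu
    have h3 : α ((MulAut.conj g⁻¹ : MulAut Spor.He).symm u) = (MulAut.conj g⁻¹ : MulAut Spor.He).symm u := by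
      apply (MulAut.conj g⁻¹ : MulAut Spor.He).injective
      rw [MulEquiv.apply_symm_apply]
      exact hαu
    have h4 := hn _ hu h3
    rw [MulEquiv.symm_apply_eq, _root_.map_one] at h4
    exact h4
  · have e2 : (MulAut.conj g⁻¹ : MulAut Spor.He).symm (gn .a) = g * gn .a * g⁻¹ := by
      rw [MulEquiv.symm_apply_eq, MulAut.conj_apply]; group
    change (MulAut.conj g⁻¹ : MulAut Spor.He) (α ((MulAut.conj g⁻¹ : MulAut Spor.He).symm (gn .a))) = gn .a
    rw [e2]
    change (MulAut.conj g⁻¹ : MulAut Spor.He) (α (g * PresentedGroup.of Gen.a * g⁻¹)) = gn .a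
    rw [hg, MulAut.conj_apply]
    change g⁻¹ * (g * gn .a * g⁻¹) * g⁻¹⁻¹ = gn .a
    group

end main

end HeRow

end Cfsg.Agent.H295.A7
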