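import Cfsg.Agent.H295.A7G
import Cfsg.Agent.S2075

/-!
# `|Aut(He)| = 2 |He|`, `|Aut(A₉)| = 2 |A₉|`, identification of `G` (helper295)
-/

set_option autoImplicit false

namespace Cfsg.Agent.H295.A7

open Subgroup Cfsg Equiv Equiv.Perm

universe u v

theorem card_aut_congr {X : Type*} {Y : Type*} [Group X] [Group Y] (e : X ≃* Y)
    (h : Nat.card (MulAut Y) = 2 * Nat.card Y) : Nat.card (MulAut X) = 2 * Nat.card X := by
  rw [Nat.card_congr e.toEquiv, ← h]
  exact Nat.card_congr (MulAut.congr e).toEquiv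

theorem card_aut {Y : Type*} [Group Y] (hc : center Y = ⊥) (h : Nat.card (Cfsg.Out Y) = 2) :
    Nat.card (MulAut Y) = 2 * Nat.card Y := by
  have h1 := Subgroup.card_eq_card_quotient_mul_card_subgroup (Inn Y)
  rw [h1, show Nat.card (MulAut Y ⧸ Inn Y) = 2 from h]
  congr 1
  have hinj : Function.Injective (MulAut.conj : Y →* MulAut Y) := by
    rw [injective_iff_map_eq_one]
    intro g hg
    have h2 : g ∈ center Y := by
      rw [mem_center_iff]
      intro y
      have h3 := congrArg (fun f : MulAut Y => f y) hg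
      change g * y * g⁻¹ = y at h3
      exact (mul_inv_eq_iff_eq_mul.1 h3).symm
    rw [hc, mem_bot] at h2
    exact h2
  exact (Nat.card_congr (MonoidHom.ofInjective hinj).toEquiv).symm

theorem card_aut_he {X : Type*} [Group X] [hs : IsSimpleGroup X] (hna : ¬ IsMulCommutative X) (h : Spor.IsoHe X) :
    Nat.card (MulAut X) = 2 * Nat.card X := by
  obtain ⟨e⟩ := h
  refine card_aut_congr e (card_aut ?_ S2075.result)
  have hs' : IsSimpleGroup Spor.He := e.symm.isSimpleGroup
  refine StdRed.center_eq_bot_of_simple hs' fun hc => hna ⟨⟨fun a b => e.injective ?_⟩⟩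
  rw [_root_.map_mul, _root_.map_mul]
  exact hc.is_comm.comm _ _

theorem aut_nine : Nonempty (Perm (Fin 9) ≃* MulAut ↥(alternatingGroup (Fin 9))) :=
  ⟨MulEquiv.ofBijective _ (S2119.result 9 (by norm_num) (by norm_num))⟩

theorem card_aut_nine {X : Type*} [Group X] (e : X ≃* ↥(alternatingGroup (Fin 9))) :
    Nat.card (MulAut X) = 2 * Nat.card X := by
  refine card_aut_congr e ?_
  obtain ⟨f⟩ := aut_nine
  rw [← Nat.card_congr f.toEquiv]
  exact (two_mul_nat_card_alternatingGroup (α := Fin 9)).symm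

variable {G : Type u} [Group G] {A X : Subgroup G} [hX : X.Normal]

/-- the Held case -/
theorem he_case [Finite G] (hs : IsSimpleGroup ↥X) (hna : ¬ IsMulCommutative ↥X) (hc : centralizer (X : Set G) = ⊥)
    (hHe : Spor.IsoHe ↥X) (hA : IsQuasisimple ↥A) (hAX : A ≤ X) {t : G}
    (ho : Outer (MulAut.conjNormal t : MulAut ↥X) (A.subgroupOf X)) :
    Nonempty (G ≃* MulAut Spor.He) ∧ normalClosure (A : Set G) = commutator G := by
  have hAne : A ≠ ⊥ := by
    rintro rfl
    have := SignalizersComponents.Components.quasisimple_nontrivial hA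
    exact not_nontrivial _ this
  have hne : X ≠ ⊤ := by
    intro h
    have ht : t ∈ X := by rw [h]; exact mem_top t
    refine ho.not_inner ⟨t, ht⟩ ?_ ?_
    · intro x hx
      have h1 : x ∈ center ↥X := mem_center_iff.2 fun g => (hx g).symm
      rw [StdRed.center_eq_bot_of_simple hs hna, mem_bot] at h1
      exact h1
    · ext y
      rw [MulAut.conjNormal_apply]
      rfl
  obtain ⟨⟨f⟩, h2⟩ := Fin.equiv_aut hX hs hna hc (card_aut_he hna hHe) hne
  obtain ⟨e⟩ := hHe
  exact ⟨⟨f.trans (MulAut.congr e)⟩, by rw [h2]; exact Fin.normalClosure_eq hX hs hAX hAne⟩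

/-- the case `A₉` -/
theorem nine_case [Finite G] (hs : IsSimpleGroup ↥X) (hna : ¬ IsMulCommutative ↥X) (hc : centralizer (X : Set G) = ⊥)
    (e : ↥X ≃* ↥(alternatingGroup (Fin 9))) (hA : IsQuasisimple ↥A) (hAX : A ≤ X) (h7 : 7 ∣ Nat.card ↥A) {t : G}
    (ht : orderOf t = 2) (htA : t ∈ centralizer (A : Set G)) :
    Nonempty (G ≃* Perm (Fin 9)) ∧ normalClosure (A : Set G) = commutator G := by
  have hAne : A ≠ ⊥ := by
    rintro rfl
    have := SignalizersComponents.Components.quasisimple_nontrivial hA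
    exact not_nontrivial _ this
  have hne : X ≠ ⊤ := by
    intro h
    have htX : t ∈ X := by rw [h]; exact mem_top t
    have : Fact (Nat.Prime 7) := ⟨by norm_num⟩
    obtain ⟨x, hx⟩ := exists_prime_orderOf_dvd_card' 7 h7
    have h1 : (⟨t, htX⟩ : ↥X) = 1 := by
      refine Fin.no_inner_nine e (x := ⟨x, hAX x.2⟩) ?_ ?_ ?_
      · rw [Subgroup.orderOf_mk, Subgroup.orderOf_coe, hx]
      · apply Subtype.ext
        change t * t = 1
        rw [← pow_two, ← ht, pow_orderOf_eq_one]
      · apply Subtype.ext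
        exact (mem_centralizer_iff.1 htA x x.2).symm
    have h2 : t = 1 := congrArg Subtype.val h1
    rw [h2, orderOf_one] at ht
    omega
  obtain ⟨⟨f⟩, h2⟩ := Fin.equiv_aut hX hs hna hc (card_aut_nine e) hne
  obtain ⟨g⟩ := aut_nine
  exact ⟨⟨(f.trans (MulAut.congr e)).trans g.symm⟩, by rw [h2]; exact Fin.normalClosure_eq hX hs hAX hAne⟩

end Cfsg.Agent.H295.A7
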