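import Cfsg.Agent.StdL3.OuterFixU
import Cfsg.Agent.StdL3.OuterFixF
import Cfsg.Agent.BpSpor.HeThree
import Cfsg.Agent.LThreeFour.Exists
import Cfsg.Prelude.Def_EvenType

/-!
# Fixed points of the involutory automorphisms of `PSL(3,4)` (helper295)

`psl_fix` : if `τ² = 1` and 3 divides `|C(τ)|`, then `τ` centralises a subgroup of order 5, 7 or 9.
-/

set_option autoImplicit false
set_option linter.constructorNameAsVariable false

namespace Cfsg.Agent.H295.PslFix

open Matrix Subgroup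
open Cfsg.Agent.ClassicalGeometry.AutPSL.Root
open Cfsg.Agent.ClassicalGeometry.AutPSL.Auto
open Cfsg.Agent.SporadicA.FieldFour
open Cfsg.Agent.ONType.Psl
open Cfsg.Agent.StdL3.OuterMat
open Cfsg.Agent.StdL3.OuterClass
open Cfsg.Agent.StdL3.OuterFix

theorem pr_ne_one {X : SL3} {i j : Fin 3} (hij : i ≠ j) (h : X.1 i j ≠ 0) : (pr X : PSL3) ≠ 1 := by
  intro h1
  have h2 : (pr X : PSL3) = pr 1 := h1
  obtain ⟨c, hc⟩ := exists_smul_of_pr_eq h2
  have e1 : (1 : Matrix (Fin 3) (Fin 3) F4) i j = c * X.1 i j := congrFun (congrFun hc i) j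
  have e2 : (1 : Matrix (Fin 3) (Fin 3) F4) 0 0 = c * X.1 0 0 := congrFun (congrFun hc 0) 0
  rw [Matrix.one_apply_ne hij] at e1
  rw [Matrix.one_apply_eq] at e2
  have hc0 : c = 0 := (mul_eq_zero.1 e1.symm).resolve_right h
  rw [hc0, zero_mul] at e2
  exact one_ne_zero e2

/-- matrix of order 5, orthogonal -/
def m5 : Matrix (Fin 3) (Fin 3) F4 := fun a b =>
  if a = 0 then (if b = 2 then 1 else 0)
  else if a = 1 then (if b = 0 then F4.w else if b = 1 then F4.v else 0)
  else (if b = 0 then F4.v else if b = 1 then F4.w else 0)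

/-- matrix of order 7 over the prime field -/
def m7 : Matrix (Fin 3) (Fin 3) F4 := fun a b =>
  if a = 0 then (if b = 0 then 0 else 1)
  else if a = 1 then 1
  else (if b = 1 then 0 else 1)

theorem det_m5 : m5.det = 1 := by rw [Matrix.det_fin_three]; decide +kernel
theorem det_m7 : m7.det = 1 := by rw [Matrix.det_fin_three]; decide +kernel

def s5 : SL3 := ⟨m5, det_m5⟩
def s7 : SL3 := ⟨m7, det_m7⟩

theorem s5_pow : s5 ^ 5 = 1 := by
  apply Subtype.ext
  rw [Matrix.SpecialLinearGroup.coe_pow, Matrix.SpecialLinearGroup.coe_one]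
  change m5 ^ 5 = 1
  have h2 : m5 ^ 5 = m5 * m5 * (m5 * m5) * m5 := by
    simp only [pow_succ, pow_zero, one_mul, mul_assoc]
  rw [h2]
  decide +kernel

theorem s7_pow : s7 ^ 7 = 1 := by
  apply Subtype.ext
  rw [Matrix.SpecialLinearGroup.coe_pow, Matrix.SpecialLinearGroup.coe_one]
  change m7 ^ 7 = 1
  have h2 : m7 ^ 7 = m7 * m7 * (m7 * m7) * (m7 * m7) * m7 := by
    simp only [pow_succ, pow_zero, one_mul, mul_assoc]
  rw [h2]
  decide +kernel

theorem s5_orth : s5.1 * s5.1ᵀ = 1 := by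
  change m5 * m5ᵀ = 1
  decide +kernel

theorem order_s5 : orderOf (pr s5 : PSL3) = 5 := by
  have : Fact (Nat.Prime 5) := ⟨by norm_num⟩
  apply orderOf_eq_prime
  · change pr (s5 ^ 5) = 1
    rw [s5_pow]; rfl
  · exact pr_ne_one (i := 0) (j := 2) (by decide) (by change m5 0 2 ≠ 0; decide)

theorem order_s7 : orderOf (pr s7 : PSL3) = 7 := by
  have : Fact (Nat.Prime 7) := ⟨by norm_num⟩
  apply orderOf_eq_prime
  · change pr (s7 ^ 7) = 1
    rw [s7_pow]; rfl
  · exact pr_ne_one (i := 0) (j := 2) (by decide) (by change m7 0 2 ≠ 0; decide)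

theorem s7_fix : (pr s7 : PSL3) ∈ Fix (lift (fld phi : MulAut SL3)) := by
  rw [mem_Fix]
  change pr (fld phi s7 : SL3) = pr s7
  congr 1
  apply Subtype.ext
  change m7.map phi = m7
  decide +kernel

/-- the standard outer involutions -/
theorem std_fix (b c : Bool) (hbc : (b || c) = true) :
    ∃ E : Subgroup PSL3, (∀ e ∈ E, lift (std b c) e = e) ∧ (Nat.card E = 9 ∨ Nat.card E = 5 ∨ Nat.card E = 7) := by
  have key : ∀ (y : MulAut PSL3) (g : PSL3), y g = g → ∀ e ∈ zpowers g, y e = e := by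
    intro y g hg e he
    obtain ⟨k, rfl⟩ := mem_zpowers_iff.1 he
    rw [map_zpow, hg]
  rcases b with _ | _
  · rcases c with _ | _
    · exact absurd hbc (by decide)
    · refine ⟨zpowers (pr s5), key _ _ ?_, Or.inr (Or.inl (by rw [Nat.card_zpowers, order_s5]))⟩
      have h1 : (std false true : MulAut SL3) = itr := by unfold std; simp
      rw [h1]
      exact mem_fix_graph s5_orth
  · rcases c with _ | _
    · refine ⟨zpowers (pr s7), key _ _ ?_, Or.inr (Or.inr (by rw [Nat.card_zpowers, order_s7]))⟩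
      have h1 : (std true false : MulAut SL3) = fld phi := by unfold std; simp
      rw [h1]
      exact s7_fix
    · refine ⟨StdL3.OuterFixU.E, ?_, Or.inl StdL3.OuterFixU.card_E⟩
      intro e he
      obtain ⟨i, j, rfl⟩ := StdL3.OuterFixU.mem_E.1 he
      have h1 : (std true true : MulAut SL3) = fld phi * itr := by unfold std; simp
      rw [h1]
      exact StdL3.OuterFixU.el_mem i j

theorem psl_fix (τ : MulAut PSL3) (h : τ * τ = 1) (h3 : 3 ∣ Nat.card (fixedSubgroup τ)) :
    ∃ E : Subgroup PSL3, (∀ e ∈ E, τ e = e) ∧ (Nat.card E = 9 ∨ Nat.card E = 5 ∨ Nat.card E = 7) := by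
  by_cases hin : ∃ l, τ = MulAut.conj l
  · obtain ⟨l, rfl⟩ := hin
    have hll : l * l = 1 := by
      apply LThreeFour.Dat.conj_injective LThreeFour.datPSL
      rw [map_mul, h, map_one]
    by_cases hl : l = 1
    · refine ⟨zpowers (pr s5), ?_, Or.inr (Or.inl (by rw [Nat.card_zpowers, order_s5]))⟩
      intro e _
      rw [hl, map_one]; rfl
    · exfalso
      have : Fact (Nat.Prime 2) := ⟨Nat.prime_two⟩
      have hl2 : orderOf l = 2 := orderOf_eq_prime (by rw [pow_two, hll]) hl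
      have h1 := BpSpor.LFour.two_group LThreeFour.datPSL hl2
      have h2 : fixedSubgroup (MulAut.conj l) = centralizer ({l} : Set PSL3) := by
        ext y
        rw [mem_centralizer_singleton_iff]
        change l * y * l⁻¹ = y ↔ y * l = l * y
        rw [mul_inv_eq_iff_eq_mul, eq_comm]
      rw [h2] at h3
      have hf : Finite PSL3 := Nat.finite_of_card_ne_zero (by rw [ONType.PslCard.card_PSL3]; norm_num)
      obtain ⟨n, hn⟩ := h1.exists_card_eq
      rw [hn] at h3
      have := (Nat.Prime.dvd_of_dvd_pow (by norm_num : Nat.Prime 3) h3)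
      omega
  · obtain ⟨γ, b, c, hbc, hg⟩ := class_outer τ h (fun l hl => hin ⟨l, hl⟩)
    obtain ⟨E, hE, hc⟩ := std_fix b c hbc
    refine ⟨E.map γ.toMonoidHom, ?_, ?_⟩
    · rintro _ ⟨e, he, rfl⟩
      have h1 := DFunLike.congr_fun hg e
      rw [MulAut.mul_apply, MulAut.mul_apply, hE e he] at h1
      exact h1
    · rw [Nat.card_congr (E.equivMapOfInjective γ.toMonoidHom γ.injective).symm.toEquiv]
      exact hc

/-- **Lifting.** `π : K → L` with kernel a central 2-group, `β` an automorphism of `K` inducing `τ` on `L`,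
`E ≤ C_L(τ)` of odd order: `|E|` divides `|C_K(β)|`. -/
theorem card_dvd_of_lift {K L : Type*} [Group K] [Finite K] [Group L] (π : K →* L)
    (hπ : Function.Surjective π) (h2 : IsPGroup 2 π.ker) (hc : π.ker ≤ center K) (β : MulAut K) (τ : MulAut L)
    (hβ : ∀ k, τ (π k) = π (β k)) (E : Subgroup L) (hE : ∀ e ∈ E, τ e = e) (hodd : Odd (Nat.card E)) :
    Nat.card E ∣ Nat.card (fixedSubgroup β) := by
  obtain ⟨s, hs⟩ := h2.exists_card_eq
  obtain ⟨m, hm⟩ : ∃ m, m = Nat.card E := ⟨_, rfl⟩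
  rw [← hm] at hodd ⊢
  have hkN : ∀ k : K, π k = 1 → k ^ 2 ^ s = 1 := by
    intro k hk
    have h1 : (⟨k, hk⟩ : π.ker) ^ Nat.card π.ker = 1 := pow_card_eq_one'
    rw [hs] at h1
    exact congrArg Subtype.val h1
  have hcop : Nat.Coprime (2 ^ s) m := (Nat.Coprime.pow_left s (Nat.coprime_two_left.2 hodd))
  have key : E ≤ (fixedSubgroup β).map π := by
    intro e he
    obtain ⟨k, rfl⟩ := hπ e
    obtain ⟨j, hj1, hj2⟩ := Nat.chineseRemainder hcop 0 1
    have hem : (π k) ^ m = 1 := by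
      have h1 : (⟨π k, he⟩ : E) ^ Nat.card E = 1 := pow_card_eq_one'
      rw [← hm] at h1
      exact congrArg Subtype.val h1
    have e1 : π (k ^ j) = π k := by
      rw [map_pow]
      conv_rhs => rw [← pow_one (π k)]
      rw [pow_eq_pow_iff_modEq]
      exact hj2.of_dvd (orderOf_dvd_of_pow_eq_one hem)
    have e2 : (k ^ j) ^ m = 1 := by
      obtain ⟨i, hi⟩ := (Nat.modEq_zero_iff_dvd.1 hj1)
      have h1 := hkN (k ^ m) (by rw [map_pow, hem])
      rw [← pow_mul, mul_comm, pow_mul, hi, pow_mul, h1, one_pow]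
    obtain ⟨y, hy⟩ : ∃ y, y = k ^ j := ⟨_, rfl⟩
    rw [← hy] at e1 e2
    refine ⟨y, ?_, e1⟩
    change β y = y
    have hcm : y⁻¹ * β y ∈ π.ker := by
      rw [MonoidHom.mem_ker, map_mul, map_inv, ← hβ, e1, hE _ he, inv_mul_cancel]
    obtain ⟨c, hce⟩ : ∃ c, c = y⁻¹ * β y := ⟨_, rfl⟩
    rw [← hce] at hcm
    have hby : β y = y * c := by rw [hce]; group
    have h3 : (y * c) ^ m = 1 := by rw [← hby, ← map_pow, e2, map_one]
    have h4 : Commute y c := mem_center_iff.1 (hc hcm) y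
    rw [h4.mul_pow, e2, one_mul] at h3
    have h5 : orderOf c ∣ 1 := by
      rw [← hcop]
      exact Nat.dvd_gcd (orderOf_dvd_of_pow_eq_one (hkN c hcm)) (orderOf_dvd_of_pow_eq_one h3)
    have h6 : c = 1 := orderOf_eq_one_iff.1 (Nat.dvd_one.1 h5)
    rw [hby, h6, mul_one]
  have h7 := Subgroup.card_dvd_of_le key
  rw [← hm] at h7
  exact h7.trans (Subgroup.card_map_dvd _ _)

/-- the induced automorphism of a quotient -/
theorem exists_induced {K L : Type*} [Group K] [Group L] (π : K →* L) (hπ : Function.Surjective π)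
    (β : MulAut K) (hβ : ∀ k, π k = 1 ↔ π (β k) = 1) : ∃ τ : MulAut L, ∀ k, τ (π k) = π (β k) := by
  have h1 : ∀ k l, π k = π l ↔ π (β k) = π (β l) := by
    intro k l
    rw [← inv_mul_eq_one, ← map_inv, ← map_mul, hβ, map_mul, map_inv, map_mul, map_inv, inv_mul_eq_one]
  choose g hg using hπ
  have h2 : ∀ k, π (β (g (π k))) = π (β k) := fun k => (h1 _ _).1 (hg _)
  let f : L →* L :=
    { toFun := fun l => π (β (g l))
      map_one' := by
        have := h2 1
        rw [map_one, map_one, map_one] at this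
        exact this
      map_mul' := by
        intro a b
        have h3 : π (g (a * b)) = π (g a * g b) := by rw [hg, map_mul, hg, hg]
        change π (β (g (a * b))) = _
        rw [(h1 _ _).1 h3, map_mul, map_mul] }
  have hf : ∀ k, f (π k) = π (β k) := h2
  refine ⟨MulEquiv.ofBijective f ⟨?_, ?_⟩, hf⟩
  · intro a b hab
    rw [← hg a, ← hg b, hf, hf, ← h1] at hab
    rwa [hg, hg] at hab
  · intro a
    refine ⟨π (β.symm (g a)), ?_⟩
    rw [hf, MulEquiv.apply_symm_apply, hg]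

/-- **Involutory automorphisms of covers of `PSL(3,4)`**: `K / V = PSL(3,4)`, `V` a central 2-group, `β² = 1`,
`3 ∣ |C_K(β)|`: one of 5, 7, 9 divides `|C_K(β)|`. -/
theorem cover_fix {K : Type*} [Group K] [Finite K] (π : K →* PSL3) (hπ : Function.Surjective π)
    (h2 : IsPGroup 2 π.ker) (hc : π.ker ≤ center K) (β : MulAut K) (hββ : β * β = 1)
    (hβ : ∀ k, π k = 1 → π (β k) = 1) (h3 : 3 ∣ Nat.card (fixedSubgroup β)) :
    9 ∣ Nat.card (fixedSubgroup β) ∨ 5 ∣ Nat.card (fixedSubgroup β) ∨ 7 ∣ Nat.card (fixedSubgroup β) := by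
  have hbb : ∀ k, β (β k) = k := fun k => DFunLike.congr_fun hββ k
  have hβ' : ∀ k, π k = 1 ↔ π (β k) = 1 := fun k => ⟨hβ k, fun h => by
    have := hβ _ h
    rwa [hbb] at this⟩
  obtain ⟨τ, hτ⟩ := exists_induced π hπ β hβ'
  have hττ : τ * τ = 1 := by
    ext x
    obtain ⟨k, rfl⟩ := hπ x
    rw [MulAut.mul_apply, hτ, hτ, hbb, MulAut.one_apply]
  have h3' : 3 ∣ Nat.card (fixedSubgroup τ) := by
    have : Fact (Nat.Prime 3) := ⟨by norm_num⟩
    obtain ⟨g, hg⟩ := exists_prime_orderOf_dvd_card' 3 h3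
    have hgk : orderOf (g : K) = 3 := by rw [Subgroup.orderOf_coe, hg]
    have h4 : π (g : K) ∈ fixedSubgroup τ := by
      change τ (π g) = π g
      rw [hτ]
      exact congrArg π g.2
    have h5 : orderOf (⟨π (g : K), h4⟩ : fixedSubgroup τ) = 3 := by
      rw [← Subgroup.orderOf_coe]
      apply orderOf_eq_prime
      · change π (g : K) ^ 3 = 1
        have e3 : (g : K) ^ 3 = 1 := orderOf_dvd_iff_pow_eq_one.1 (dvd_of_eq hgk)
        rw [← map_pow, e3, map_one]
      · intro h6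
        obtain ⟨n, hn⟩ := h2 ⟨(g : K), h6⟩
        have h7 : (g : K) ^ 2 ^ n = 1 := congrArg Subtype.val hn
        have h8 := orderOf_dvd_of_pow_eq_one h7
        rw [hgk] at h8
        have := (Nat.Prime.dvd_of_dvd_pow (by norm_num : Nat.Prime 3) h8)
        omega
    exact (dvd_of_eq h5.symm).trans (orderOf_dvd_natCard _)
  obtain ⟨E, hE, hcE⟩ := psl_fix τ hττ h3'
  have h6 := card_dvd_of_lift π hπ h2 hc β τ hτ E hE (by rcases hcE with h | h | h <;> rw [h] <;> decide)
  rcases hcE with h | h | h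
  · rw [h] at h6; exact Or.inl h6
  · rw [h] at h6; exact Or.inr (Or.inl h6)
  · rw [h] at h6; exact Or.inr (Or.inr h6)

/-- the form for a subgroup `P` of `X` invariant under the involutory automorphism `α` of `X` -/
theorem sub_fix {X : Type*} [Group X] [Finite X] {α : MulAut X} (hα : ∀ x, α (α x) = x) (P : Subgroup X)
    (hP : ∀ x ∈ P, α x ∈ P) (π : P →* PSL3) (hπ : Function.Surjective π)
    (h2 : IsPGroup 2 π.ker) (hc : π.ker ≤ center P)
    (hk : ∀ (x : X) (hx : x ∈ P), π ⟨x, hx⟩ = 1 → π ⟨α x, hP x hx⟩ = 1)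
    (h3 : 3 ∣ Nat.card ↥(P ⊓ fixedSubgroup α)) :
    9 ∣ Nat.card ↥(P ⊓ fixedSubgroup α) ∨ 5 ∣ Nat.card ↥(P ⊓ fixedSubgroup α) ∨
      7 ∣ Nat.card ↥(P ⊓ fixedSubgroup α) := by
  let β : MulAut P :=
    { toFun := fun x => ⟨α x, hP x x.2⟩
      invFun := fun x => ⟨α x, hP x x.2⟩
      left_inv := fun x => Subtype.ext (hα x)
      right_inv := fun x => Subtype.ext (hα x)
      map_mul' := fun x y => Subtype.ext (map_mul α _ _) }
  have hcard : Nat.card (fixedSubgroup β) = Nat.card ↥(P ⊓ fixedSubgroup α) := by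
    apply Nat.card_congr
    exact
      { toFun := fun x => ⟨x.1.1, x.1.2, congrArg Subtype.val x.2⟩
        invFun := fun x => ⟨⟨x.1, x.2.1⟩, Subtype.ext x.2.2⟩
        left_inv := fun x => rfl
        right_inv := fun x => rfl }
  rw [← hcard] at h3 ⊢
  exact cover_fix π hπ h2 hc β (by ext x; exact hα x) (fun k hk1 => hk k k.2 hk1) h3

end Cfsg.Agent.H295.PslFix
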