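import Cfsg.Agent.H295.A7Std
import Cfsg.Agent.H295.A7Perm
import Cfsg.Agent.H295.PslFix

/-!
# `C_X(α) = A₇` or `S₇`: involutions with centralizer of type `2^k.L₃(4)` (helper295)

`kill` : `A ⊴ C_X(α)`, `C_X(A) ∩ C_X(α) = 1`; `z ∈ C_X(α)` an involution, `P ≤ C_X(z)` a normal subgroup of index 2 (all the
elements of order 3 of `C_X(z)` are in `P`), `P / Z = PSL(3,4)`, `Z` a 2-group. Then `z` acts on `A₇` as a transposition.
-/

set_option autoImplicit false

namespace Cfsg.Agent.H295.A7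

open Subgroup Cfsg Equiv Equiv.Perm
open Cfsg.Agent.ONType.Psl (PSL3)

variable {X : Type*} [Group X] {A : Subgroup X} {f : X → Perm (Fin 7)}

/-- `f` is injective on `C_X(α)` -/
theorem Rep.inj (r : Rep A f) {α : MulAut X} (hn : ∀ g, α g = g → g ∈ normalizer (A : Set X))
    (h1 : ∀ u ∈ centralizer (A : Set X), α u = u → u = 1) {g h : X} (hg : α g = g) (hh : α h = h) (he : f g = f h) :
    g = h := by
  have h2 : f (g * h⁻¹) = 1 := by
    rw [r.mul g (hn g hg) h⁻¹ (inv_mem (hn h hh)), r.map_inv (hn h hh), he, mul_inv_cancel]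
  have h3 := (r.ker _ (mul_mem (hn g hg) (inv_mem (hn h hh)))).1 h2
  have h4 := h1 _ h3 (by rw [_root_.map_mul, _root_.map_inv, hg, hh])
  exact mul_inv_eq_one.1 h4

theorem Rep.card_dvd [Finite X] (r : Rep A f) {α : MulAut X} (hn : ∀ g, α g = g → g ∈ normalizer (A : Set X))
    (h1 : ∀ u ∈ centralizer (A : Set X), α u = u → u = 1) {z : X} (hz : α z = z) :
    Nat.card ↥(centralizer ({z} : Set X) ⊓ fixedSubgroup α) ∣
      Nat.card (centralizer ({f z} : Set (Perm (Fin 7)))) := by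
  let φ : ↥(centralizer ({z} : Set X) ⊓ fixedSubgroup α) →* Perm (Fin 7) :=
    { toFun := fun x => f x
      map_one' := r.map_one'
      map_mul' := fun x y => r.mul _ (hn _ x.2.2) _ (hn _ y.2.2) }
  have hinj : Function.Injective φ := fun x y hxy => Subtype.ext (r.inj hn h1 x.2.2 y.2.2 hxy)
  rw [Nat.card_congr (MonoidHom.ofInjective hinj).toEquiv]
  apply Subgroup.card_dvd_of_le
  rintro _ ⟨x, rfl⟩
  rw [mem_centralizer_singleton_iff]
  change f x * f z = f z * f x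
  rw [← r.mul _ (hn _ x.2.2) _ (hn _ hz), ← r.mul _ (hn _ hz) _ (hn _ x.2.2),
    mem_centralizer_singleton_iff.1 x.2.1]

theorem Rep.kill [Finite X] (r : Rep A f) {α : MulAut X} (hα : ∀ x, α (α x) = x) (hA : ∀ a ∈ A, α a = a)
    (hn : ∀ g, α g = g → g ∈ normalizer (A : Set X))
    (h1 : ∀ u ∈ centralizer (A : Set X), α u = u → u = 1)
    {z : X} (hz : α z = z) (hzz : z * z = 1) (hz1 : z ≠ 1)
    (P : Subgroup X) (hPz : P ≤ centralizer ({z} : Set X)) (h3P : ∀ y, y * z = z * y → y ^ 3 = 1 → y ∈ P)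
    (hP : ∀ x ∈ P, α x ∈ P) (π : P →* PSL3) (hπ : Function.Surjective π)
    (h2 : IsPGroup 2 π.ker) (hc : π.ker ≤ center P)
    (hk : ∀ (x : X) (hx : x ∈ P), π ⟨x, hx⟩ = 1 → π ⟨α x, hP x hx⟩ = 1) :
    (f z).cycleType = {2} := by
  by_contra hct
  have hf1 : f z ≠ 1 := fun h => hz1 (h1 z ((r.ker z (hn z hz)).1 h) hz)
  have hff : f z * f z = 1 := by rw [← r.mul z (hn z hz) z (hn z hz), hzz, r.map_one']
  obtain ⟨h48, y0, hy0, hy3, hy1, hyc⟩ := exists_three hff hf1 hct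
  obtain ⟨y, hyA, rfl⟩ := r.lift y0 hy0
  have hyN := (le_normalizer : A ≤ _) hyA
  have hyα := hA y hyA
  have e1 : y ^ 3 = 1 := r.inj hn h1 (by rw [_root_.map_pow, hyα]) (_root_.map_one α) (by
    rw [r.map_pow hyN, hy3, r.map_one'])
  have e2 : y * z = z * y := r.inj hn h1 (by rw [_root_.map_mul, hyα, hz]) (by rw [_root_.map_mul, hyα, hz]) (by
    rw [r.mul _ hyN _ (hn z hz), r.mul _ (hn z hz) _ hyN, hyc])
  have e3 : y ≠ 1 := fun h => hy1 (by rw [h, r.map_one'])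
  have hyP := h3P y e2 e1
  have h3 : 3 ∣ Nat.card ↥(P ⊓ fixedSubgroup α) := by
    have h4 : orderOf (⟨y, hyP, hyα⟩ : ↥(P ⊓ fixedSubgroup α)) = 3 := by
      have : Fact (Nat.Prime 3) := ⟨by norm_num⟩
      rw [← Subgroup.orderOf_coe]
      exact orderOf_eq_prime e1 e3
    exact (dvd_of_eq h4.symm).trans (orderOf_dvd_natCard _)
  have h5 := PslFix.sub_fix hα P hP π hπ h2 hc hk h3
  have h6 : Nat.card ↥(P ⊓ fixedSubgroup α) ∣ 48 := by
    rw [← h48]
    refine dvd_trans ?_ (r.card_dvd hn h1 hz)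
    exact Subgroup.card_dvd_of_le (inf_le_inf_right _ hPz)
  rcases h5 with h | h | h
  · exact absurd (h.trans h6) (by norm_num)
  · exact absurd (h.trans h6) (by norm_num)
  · exact absurd (h.trans h6) (by norm_num)

end Cfsg.Agent.H295.A7
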