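import Cfsg.Agent.H295.A7Id
import Cfsg.Agent.H295.A7Cases
import Cfsg.Agent.H284.FStd
import Cfsg.Agent.H284.AltComp
import Cfsg.Agent.S0000
import Cfsg.Agent.S1726
import Cfsg.Agent.S1766

/-!
# Standard subgroups `A`, `A / Z(A) = A₇`: S3142 (helper295)
-/

set_option autoImplicit false

namespace Cfsg.Agent.H295.A7

open Subgroup Cfsg Equiv Equiv.Perm

universe u v

theorem n_eq_seven {n : ℕ} (hn : 5 ≤ n) (h : n.factorial = 5040) : n = 7 := by
  have h7 : (7 : ℕ).factorial = 5040 := by decide
  rcases lt_trichotomy n 7 with h1 | h1 | h1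
  · have : n.factorial < (7 : ℕ).factorial := Nat.factorial_lt_of_lt (by omega) h1
    omega
  · exact h1
  · have : (7 : ℕ).factorial < n.factorial := Nat.factorial_lt_of_lt (by norm_num) h1
    omega

theorem alt_factorial {n : ℕ} (hn : 2 ≤ n) : 2 * Nat.card ↥(alternatingGroup (Fin n)) = n.factorial := by
  have hnt : Nontrivial (Fin n) := by
    rw [← Fintype.one_lt_card_iff_nontrivial, Fintype.card_fin]
    omega
  have h6 := two_mul_nat_card_alternatingGroup (α := Fin n)
  rwa [Nat.card_perm, Nat.card_fin] at h6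

/-- **S3142** -/
theorem main {G : Type u} [Group G] [Finite G] (hO : Cfsg.oddCore G = ⊥) (A : Subgroup G)
    (hA : Cfsg.IsStandardSubgroup A) (hZ : Odd (Nat.card ↥(Subgroup.center ↥A)))
    (hAX : Nonempty ((↥A ⧸ Subgroup.center ↥A) ≃* ↥(alternatingGroup (Fin 7)))) :
    (A.Normal ∧ Subgroup.center ↥A = ⊥) ∨
      (Nonempty (↥(Subgroup.normalClosure (A : Set G)) ≃* ↥(alternatingGroup (Fin 11))) ∧ Subgroup.center ↥A = ⊥) ∨
      (Nonempty (↥(Subgroup.normalClosure (A : Set G)) ≃* ↥(alternatingGroup (Fin 7)) × ↥(alternatingGroup (Fin 7))) ∧ Subgroup.center ↥A = ⊥) ∨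
      (Nonempty (G ≃* Equiv.Perm (Fin 9)) ∧ Subgroup.normalClosure (A : Set G) = commutator G ∧ Subgroup.center ↥A = ⊥) ∨
      (Nonempty (G ≃* MulAut Cfsg.Spor.He) ∧ Subgroup.normalClosure (A : Set G) = commutator G ∧ Nat.card ↥(Subgroup.center ↥A) = 3) := by
  have equiv7 : center ↥A = ⊥ → Nonempty (↥A ≃* ↥(alternatingGroup (Fin 7))) := by
    intro hc
    obtain ⟨e⟩ := hAX
    exact ⟨((QuotientGroup.quotientMulEquivOfEq hc).trans QuotientGroup.quotientBot).symm.trans e⟩
  rcases StdRed.red hO hA with hn | ⟨hs, hna, ⟨f⟩⟩ | ⟨hs, hna⟩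
  · exact Or.inl ⟨hn, StdRed.center_eq_bot_of_normal hO hn hZ⟩
  · have hc := StdRed.center_eq_bot_of_simple hs hna
    obtain ⟨e⟩ := equiv7 hc
    exact Or.inr (Or.inr (Or.inl ⟨⟨f.trans (e.prodCongr e)⟩, hc⟩))
  · obtain ⟨hAF, hcF, t, htA, ht⟩ := H284.FStd.fstd hs hna hA
    have hFn : (generalizedFittingSubgroup G).Normal := Lib.GenFitting.genFitting_normal
    have hstd := std_of (X := generalizedFittingSubgroup G) hA hcF hAF ht htA hAX
    have hk : IsKnownSimple' ↥(generalizedFittingSubgroup G) := S0000.result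
    rcases hstd.cases hna hk with ⟨m, hm, ⟨e⟩⟩ | ⟨hHe, ho, h3⟩
    · obtain ⟨hxx, hx1, hcomp⟩ := H284.FStd.comp_fix (X := generalizedFittingSubgroup G) hcF hA hAF ht htA
      obtain ⟨n, k, hn, hk1, hmn, ⟨f⟩, -, hfour⟩ := H284.AltComp.table hm e hxx hx1 hcomp
      have eA : ↥A ≃* ↥(alternatingGroup (Fin n)) := (H284.FStd.BBequiv hAF htA).symm.trans f
      have hsn : IsSimpleGroup ↥(alternatingGroup (Fin n)) := alternatingGroup.isSimpleGroup (by simpa using hn)
      have hsA : IsSimpleGroup ↥A := eA.isSimpleGroup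
      have hc := StdRed.center_eq_bot_of_simple hsA
        (SignalizersComponents.Components.quasisimple_not_isMulCommutative hA.1)
      obtain ⟨e7⟩ := equiv7 hc
      have hn7 : n = 7 := by
        apply n_eq_seven hn
        rw [← alt_factorial (by omega), Nat.card_congr (eA.symm.trans e7).toEquiv, alt_factorial (by norm_num)]
        decide
      subst hn7
      by_cases hk2 : 2 ≤ k
      · obtain ⟨a, b, ha, hb, ha2, hb2, hab, hcab⟩ := hfour hk2
        have key : ∀ c : ↥(fixedSubgroup (MulAut.conjNormal t : MulAut ↥(generalizedFittingSubgroup G))),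
            c ∈ centralizer ((H284.FStd.BB (generalizedFittingSubgroup G) A t : Subgroup _) : Set _) →
              ((c : ↥(generalizedFittingSubgroup G)) : G) ∈ centralizer (A : Set G) := by
          intro c hc'
          rw [mem_centralizer_iff] at hc' ⊢
          intro y hy
          have hy1 : (⟨y, hAF hy⟩ : ↥(generalizedFittingSubgroup G)) ∈
              fixedSubgroup (MulAut.conjNormal t : MulAut ↥(generalizedFittingSubgroup G)) :=
            H284.FStd.le_fix htA (mem_subgroupOf.2 hy)
          have h1 := hc' ⟨⟨y, hAF hy⟩, hy1⟩ hy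
          exact congrArg (fun z : ↥(fixedSubgroup (MulAut.conjNormal t : MulAut ↥(generalizedFittingSubgroup G))) =>
            ((z : ↥(generalizedFittingSubgroup G)) : G)) h1
        have hR : ¬ PRankLE 2 1 ↥(centralizer (A : Set G)) := by
          refine not_rank (key a ha) (key b hb) ?_ ?_ ?_ ?_
          · rw [Subgroup.orderOf_coe, Subgroup.orderOf_coe, ha2]
          · rw [Subgroup.orderOf_coe, Subgroup.orderOf_coe, hb2]
          · exact fun h => hab (Subtype.ext (Subtype.ext h))
          · exact congrArg (fun z : ↥(fixedSubgroup (MulAut.conjNormal t : MulAut ↥(generalizedFittingSubgroup G))) =>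
              ((z : ↥(generalizedFittingSubgroup G)) : G)) hcab
        rcases S1766.result hO (fun H N _ => S1726.result) A hA 7 (by norm_num) ⟨e7⟩ hR with h | h | ⟨h, -⟩
        · exact Or.inl ⟨h, hc⟩
        · exact Or.inr (Or.inl ⟨h, hc⟩)
        · omega
      · have hk3 : k = 1 := by omega
        subst hk3
        have hm9 : m = 9 := by omega
        subst hm9
        have h7 : 7 ∣ Nat.card ↥A := by
          rw [Nat.card_congr e7.toEquiv, card_alt7]
          norm_num
        obtain ⟨h1, h2⟩ := nine_case hs hna hcF e hA.1 hAF h7 ht htA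
        exact Or.inr (Or.inr (Or.inr (Or.inl ⟨h1, h2, hc⟩)))
    · obtain ⟨h1, h2⟩ := he_case hs hna hcF hHe hA.1 hAF ho
      refine Or.inr (Or.inr (Or.inr (Or.inr ⟨h1, h2, ?_⟩)))
      rw [← h3]
      exact Nat.card_congr (Subgroup.centerCongr (subgroupOfEquivOfLe hAF).symm).toEquiv

end Cfsg.Agent.H295.A7
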