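import Cfsg.Agent.H295.A7Rep

/-!
# Involutory automorphisms and elements of order 7 (helper295)

* `exists_fixed_inv` : an involutory automorphism fixes an involution of every invariant subgroup of even order;
* `false_of_seven` : `A ⊴ C_X(α)`, `A / Z(A) ≅ A₇`, `C(A) ∩ C_X(α)` of odd order: some element of order 7 of `X` has a
  centralizer of odd order.
-/

set_option autoImplicit false

namespace Cfsg.Agent.H295.A7

open Subgroup Cfsg Equiv Equiv.Perm

theorem card_mod_two {T : Type*} [Finite T] (g : T → T) (hg : ∀ x, g (g x) = x) :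
    Nat.card T % 2 = Nat.card {x : T // g x = x} % 2 := by
  classical
  have : Fintype T := Fintype.ofFinite T
  have h2 : Fact (Nat.Prime 2) := ⟨Nat.prime_two⟩
  have h := Equiv.Perm.card_fixedPoints_modEq (α := T) (f := (g : Function.End T)) (p := 2) (n := 1) (by
    funext x
    exact hg x)
  rw [Nat.card_eq_fintype_card, h]
  congr 1
  rw [← Nat.card_eq_fintype_card]
  rfl

/-- an involutory automorphism fixes an involution of every invariant subgroup of even order -/
theorem exists_fixed_inv {X : Type*} [Group X] [Finite X] {α : MulAut X} (hα : ∀ x, α (α x) = x) (C : Subgroup X)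
    (hC : ∀ c ∈ C, α c ∈ C) (h2 : 2 ∣ Nat.card C) : ∃ u ∈ C, u ≠ 1 ∧ u * u = 1 ∧ α u = u := by
  have h1 := card_mod_two (fun c : C => c⁻¹) (fun c => inv_inv c)
  let I := {c : C // c⁻¹ = c}
  let g : I → I := fun c => ⟨⟨α c.1, hC _ c.1.2⟩, by
    apply Subtype.ext
    change (α (c.1 : X))⁻¹ = α c.1
    rw [← map_inv]
    exact congrArg (fun y : C => α (y : X)) c.2⟩
  have h3 := card_mod_two g (fun c => Subtype.ext (Subtype.ext (hα _)))
  have h4 : Nat.card {x : I // g x = x} % 2 = 0 := by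
    rw [← h3, ← h1]; omega
  have one : {x : I // g x = x} := ⟨⟨1, inv_one⟩, Subtype.ext (Subtype.ext (map_one α))⟩
  have : Nonempty {x : I // g x = x} := ⟨one⟩
  have h5 : 0 < Nat.card {x : I // g x = x} := Nat.card_pos
  have h6 : 1 < Nat.card {x : I // g x = x} := by omega
  rw [Finite.one_lt_card_iff_nontrivial] at h6
  obtain ⟨y, hy⟩ := exists_ne (⟨⟨1, inv_one⟩, Subtype.ext (Subtype.ext (map_one α))⟩ : {x : I // g x = x})
  refine ⟨y.1.1, y.1.1.2, ?_, ?_, ?_⟩
  · intro h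
    exact hy (Subtype.ext (Subtype.ext (Subtype.ext h)))
  · have h7 := congrArg Subtype.val y.1.2
    change ((y.1.1 : X))⁻¹ = y.1.1 at h7
    calc (y.1.1 : X) * y.1.1 = (y.1.1 : X)⁻¹ * y.1.1 := by rw [h7]
      _ = 1 := inv_mul_cancel _
  · exact congrArg (fun c : I => ((c.1 : C) : X)) y.2

/-- the 7-cycle -/
def c7 : Perm (Fin 7) := finRotate 7

theorem sign_c7 : sign c7 = 1 := by decide

theorem c7_pow : c7 ^ 7 = 1 := by decide

theorem c7_ne : c7 ≠ 1 := by decide

theorem eq_pow_of_comm {s : Perm (Fin 7)} (h : s * c7 = c7 * s) : ∃ k < 7, s = c7 ^ k := by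
  refine ⟨(s 0 : ℕ), (s 0).2, ?_⟩
  have h1 : ∀ n : ℕ, s * c7 ^ n = c7 ^ n * s := fun n => ((show Commute s c7 from h).pow_right n)
  have h2 : ∀ i : Fin 7, (c7 ^ (i : ℕ)) 0 = i := by decide
  ext i
  have h3 := congrArg (fun f : Perm (Fin 7) => f 0) (h1 i)
  simp only [Perm.mul_apply] at h3
  rw [h2] at h3
  rw [h3]
  have h4 : ∀ i j : Fin 7, (c7 ^ (i : ℕ)) j = (c7 ^ (j : ℕ)) i := by decide
  rw [h4]

theorem eq_one_of_comm_c7 {s : Perm (Fin 7)} (h : s * c7 = c7 * s) (h2 : s * s = 1) : s = 1 := by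
  obtain ⟨k, hk, rfl⟩ := eq_pow_of_comm h
  interval_cases k
  · rfl
  all_goals exact absurd h2 (by decide)

variable {X : Type*} [Group X]

/-- an involution of `N(A)` commuting with a preimage of the 7-cycle centralises `A` -/
theorem Rep.cent_of_seven {A : Subgroup X} {f : X → Perm (Fin 7)} (r : Rep A f) {x : X} (hx : x ∈ A) (hfx : f x = c7)
    {u : X} (hu : u ∈ normalizer (A : Set X)) (huu : u * u = 1) (hc : u * x = x * u) :
    u ∈ centralizer (A : Set X) := by
  have h1 : f 1 = 1 := (r.ker 1 (one_mem _)).2 (one_mem _)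
  rw [← r.ker u hu]
  apply eq_one_of_comm_c7
  · rw [← hfx, ← r.mul u hu x (le_normalizer hx), ← r.mul x (le_normalizer hx) u hu, hc]
  · rw [← r.mul u hu u hu, huu, h1]

theorem Rep.map_one' {A : Subgroup X} {f : X → Perm (Fin 7)} (r : Rep A f) : f 1 = 1 :=
  (r.ker 1 (one_mem _)).2 (one_mem _)

theorem Rep.map_pow {A : Subgroup X} {f : X → Perm (Fin 7)} (r : Rep A f) {g : X}
    (hg : g ∈ normalizer (A : Set X)) (n : ℕ) : f (g ^ n) = f g ^ n := by
  induction n with
  | zero => rw [pow_zero, pow_zero, r.map_one']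
  | succ n ih => rw [pow_succ, pow_succ, r.mul _ (pow_mem hg n) _ hg, ih]

theorem Rep.map_inv {A : Subgroup X} {f : X → Perm (Fin 7)} (r : Rep A f) {g : X}
    (hg : g ∈ normalizer (A : Set X)) : f g⁻¹ = (f g)⁻¹ := by
  rw [eq_inv_iff_mul_eq_one, ← r.mul _ (inv_mem hg) _ hg, inv_mul_cancel, r.map_one']

theorem order_c7 : orderOf c7 = 7 := by
  have : Fact (Nat.Prime 7) := ⟨by norm_num⟩
  exact orderOf_eq_prime c7_pow c7_ne

/-- a preimage of order 7 of a generator of `⟨c7⟩` (if `49 ∤ |X|`) -/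
theorem Rep.exists_seven [Finite X] {A : Subgroup X} {f : X → Perm (Fin 7)} (r : Rep A f)
    (h49 : ¬ 7 ^ 2 ∣ Nat.card X) : ∃ x ∈ A, orderOf x = 7 ∧ ∃ k : ℕ, (f x) ^ k = c7 := by
  obtain ⟨y, hyA, hy⟩ := r.lift c7 sign_c7
  have hyN := (le_normalizer : A ≤ _) hyA
  have h7 : 7 ∣ orderOf y := by
    rw [← order_c7, orderOf_dvd_iff_pow_eq_one, ← hy, ← r.map_pow hyN, pow_orderOf_eq_one, r.map_one']
  obtain ⟨m, hm⟩ := h7
  have hm7 : ¬ 7 ∣ m := by
    rintro ⟨n, rfl⟩
    apply h49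
    exact (Dvd.intro n (by rw [hm]; ring)).trans (orderOf_dvd_natCard y)
  have hm0 : m ≠ 0 := by
    rintro rfl
    exact hm7 (dvd_zero 7)
  refine ⟨y ^ m, pow_mem hyA m, ?_, ?_⟩
  · rw [orderOf_pow, hm, Nat.gcd_mul_left_left, Nat.mul_div_cancel _ (Nat.pos_of_ne_zero hm0)]
  · rw [r.map_pow hyN, hy]
    -- `m k = 1 (mod 7)`
    have h1 : ∃ k : ℕ, (m * k) % 7 = 1 := by
      have h2 : m % 7 < 7 := Nat.mod_lt _ (by norm_num)
      have h3 : m % 7 ≠ 0 := fun h => hm7 (Nat.dvd_of_mod_eq_zero h)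
      have h4 : m % 7 = 1 ∨ m % 7 = 2 ∨ m % 7 = 3 ∨ m % 7 = 4 ∨ m % 7 = 5 ∨ m % 7 = 6 := by omega
      rcases h4 with h | h | h | h | h | h
      · exact ⟨1, by omega⟩
      · exact ⟨4, by omega⟩
      · exact ⟨5, by omega⟩
      · exact ⟨2, by omega⟩
      · exact ⟨3, by omega⟩
      · exact ⟨6, by omega⟩
    obtain ⟨k, hk⟩ := h1
    refine ⟨k, ?_⟩
    rw [← pow_mul, ← pow_mod_orderOf, order_c7, hk, pow_one]

/-- **The criterion (C7).** `α` an involutory automorphism of `X`, `A ≤ C_X(α)` normal in it, `A` with a representation,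
`C(A) ∩ C_X(α)` of odd order, `49 ∤ |X|`. Then some element of order 7 has a centralizer of odd order. -/
theorem Rep.odd_seven [Finite X] {A : Subgroup X} {f : X → Perm (Fin 7)} (r : Rep A f)
    {α : MulAut X} (hα : ∀ x, α (α x) = x) (hA : ∀ a ∈ A, α a = a)
    (hn : ∀ g : X, α g = g → g ∈ normalizer (A : Set X))
    (hodd : ∀ u : X, α u = u → u * u = 1 → u ∈ centralizer (A : Set X) → u = 1)
    (h49 : ¬ 7 ^ 2 ∣ Nat.card X) :
    ∃ x : X, orderOf x = 7 ∧ ¬ 2 ∣ Nat.card (centralizer ({x} : Set X)) := by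
  obtain ⟨x, hxA, hx7, k, hk⟩ := r.exists_seven h49
  refine ⟨x, hx7, fun h2 => ?_⟩
  have hxN := (le_normalizer : A ≤ _) hxA
  obtain ⟨u, hu, hu1, huu, hαu⟩ := exists_fixed_inv hα (centralizer ({x} : Set X)) (by
    intro c hc
    rw [mem_centralizer_singleton_iff] at hc ⊢
    have := congrArg α hc
    rwa [_root_.map_mul, _root_.map_mul, hA x hxA] at this) h2
  rw [mem_centralizer_singleton_iff] at hu
  apply hu1
  apply hodd u hαu huu
  have hu' : u * x ^ k = x ^ k * u := ((show Commute u x from hu).pow_right k)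
  exact r.cent_of_seven (pow_mem hxA k) (by rw [r.map_pow hxN, hk]) (hn u hαu) huu hu'

/-- if `49 ∤ |X|` and the centralizer of some involution has order divisible by 7, then all elements of order 7 have
centralizers of even order -/
theorem even_seven [Finite X] (h49 : ¬ 7 ^ 2 ∣ Nat.card X) {z : X} (hz : orderOf z = 2)
    (h7 : 7 ∣ Nat.card (centralizer ({z} : Set X))) (x : X) (hx : orderOf x = 7) :
    2 ∣ Nat.card (centralizer ({x} : Set X)) := by
  have hp : Fact (Nat.Prime 7) := ⟨by norm_num⟩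
  obtain ⟨y, hy⟩ := exists_prime_orderOf_dvd_card' 7 h7
  have hy' : orderOf (y : X) = 7 := by rw [Subgroup.orderOf_coe, hy]
  -- Sylow subgroups
  have hc : (Nat.card X).factorization 7 = 1 := by
    have h1 : (Nat.card X).factorization 7 < 2 := by
      by_contra hlt
      exact h49 ((Nat.Prime.pow_dvd_iff_le_factorization hp.out Nat.card_pos.ne').2 (by omega))
    have h2 : 1 ≤ (Nat.card X).factorization 7 :=
      (Nat.Prime.pow_dvd_iff_le_factorization hp.out Nat.card_pos.ne').1 (by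
        rw [pow_one, ← hx]; exact orderOf_dvd_natCard x)
    omega
  have syl : ∀ w : X, orderOf w = 7 → ∃ P : Sylow 7 X, (P : Subgroup X) = zpowers w := by
    intro w hw
    have h1 : IsPGroup 7 (zpowers w) := IsPGroup.of_card (n := 1) (by rw [Nat.card_zpowers, hw, pow_one])
    obtain ⟨P, hP⟩ := h1.exists_le_sylow
    refine ⟨P, (Subgroup.eq_of_le_of_card_ge hP ?_).symm⟩
    rw [Nat.card_zpowers, hw, Sylow.card_eq_multiplicity, hc, pow_one]
  obtain ⟨P, hP⟩ := syl x hx
  obtain ⟨Q, hQ⟩ := syl y hy'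
  obtain ⟨g, hg⟩ := MulAction.exists_smul_eq X P Q
  have h1 : g * x * g⁻¹ ∈ zpowers (y : X) := by
    rw [← hQ, ← hg, Sylow.coe_subgroup_smul, hP]
    exact ⟨x, mem_zpowers x, rfl⟩
  obtain ⟨k, hk⟩ := mem_zpowers_iff.1 h1
  have hyz : z * (y : X) ^ k = (y : X) ^ k * z :=
    ((show Commute (z : X) y from (mem_centralizer_singleton_iff.1 y.2).symm).zpow_right k)
  have h2 : (g⁻¹ * z * g) ∈ centralizer ({x} : Set X) := by
    rw [mem_centralizer_singleton_iff]
    rw [hk] at hyz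
    calc g⁻¹ * z * g * x = g⁻¹ * (z * (g * x * g⁻¹)) * g := by group
      _ = g⁻¹ * ((g * x * g⁻¹) * z) * g := by rw [hyz]
      _ = x * (g⁻¹ * z * g) := by group
  have h3 : orderOf (⟨g⁻¹ * z * g, h2⟩ : centralizer ({x} : Set X)) = 2 := by
    rw [← Subgroup.orderOf_coe]
    change orderOf (g⁻¹ * z * g) = 2
    have h4 : orderOf (g⁻¹ * z * g) = orderOf z := by
      have h5 := (MulAut.conj g⁻¹).orderOf_eq z
      rw [MulAut.conj_apply, inv_inv] at h5
      exact h5
    rw [h4, hz]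
  rw [← h3]
  exact orderOf_dvd_natCard _

end Cfsg.Agent.H295.A7
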