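import Cfsg.Prelude.Def_Spor_Conway
import Cfsg.Prelude.Def_Spor_Suz
import Cfsg.Prelude.Def_Spor_He
import Cfsg.Agent.H295.LGOrd
import Cfsg.Agent.H295.LGBar
import Cfsg.Agent.H295.LGHe
import Cfsg.Agent.H295.LGCov
import Cfsg.Agent.H295.A7Id
import Cfsg.Agent.KFacts.He.Cent
import Cfsg.Agent.S0000
import Cfsg.Agent.S0810
import Cfsg.Agent.S1163
import Cfsg.Agent.S1726
import Cfsg.Agent.S2043
import Cfsg.Agent.S2048
import Cfsg.Agent.S2049
import Cfsg.Agent.S3092

/-!
# Standard subgroups of type `L₃(4)`, `G₂(4)`, centralizer of 2-rank at least 2: S3141 (helper295)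
-/

set_option autoImplicit false
set_option linter.unusedSectionVars false
set_option linter.unusedVariables false
set_option linter.style.haveILetI false

namespace Cfsg.Agent.H295.LG

open Subgroup Cfsg Equiv Equiv.Perm

universe u v

theorem mem_of_index_le {H : Type*} [Group H] {X : Subgroup H} (hi : X.index = 1 ∨ X.index = 2) (x y : H) :
    x ∈ X ∨ y ∈ X ∨ x * y ∈ X := by
  rcases hi with h | h
  · left
    rw [Subgroup.index_eq_one.1 h]
    trivial
  · by_cases hx : x ∈ X
    · exact Or.inl hx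
    · by_cases hy : y ∈ X
      · exact Or.inr (Or.inl hy)
      · right; right
        rw [Subgroup.mul_mem_iff_of_index_two h]
        exact ⟨fun h => absurd h hx, fun h => absurd h hy⟩

/-- a normal Held subgroup with trivial centralizer has index at most two -/
theorem he_index {H : Type*} [Group H] [Finite H] {X : Subgroup H} (hn : X.Normal) (hX : Spor.IsoHe ↥X)
    (hc : centralizer (X : Set H) = ⊥) : X.index = 1 ∨ X.index = 2 := by
  have hs : IsSimpleGroup ↥X ∧ ¬ IsMulCommutative ↥X := by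
    obtain ⟨e⟩ := hX
    have h1 : IsSimpleGroup Spor.He := KFacts.He.Cent.simpleHe
    refine ⟨e.isSimpleGroup, fun hcm => ?_⟩
    have h2 := e.symm.injective.ne (KFacts.He.TwoACent.a_ne_one)
    apply h2
    rw [← KFacts.He.TwoACent.s_conj_v, map_mul, map_mul, map_mul, map_inv, map_inv, map_one]
    have h3 : ∀ a b : ↥X, a * b = b * a := fun a b => hcm.is_comm.comm a b
    rw [h3 (e.symm KFacts.He.TwoACent.s), mul_inv_cancel_right, mul_inv_cancel]
  have hcard := by
    have := hs.1
    exact A7.card_aut_he hs.2 hX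
  have hfin : Finite (MulAut ↥X) := Nat.finite_of_card_ne_zero (by rw [hcard]; exact (mul_pos two_pos Nat.card_pos).ne')
  have hinj : Function.Injective (MulAut.conjNormal : H →* MulAut ↥X) := by
    rw [injective_iff_map_eq_one]
    intro g hg
    have h1 : g ∈ centralizer (X : Set H) := by
      rw [mem_centralizer_iff]
      intro x hx
      have h2 := congrArg (fun f : MulAut ↥X => ((f ⟨x, hx⟩ : ↥X) : H)) hg
      simp only [MulAut.conjNormal_apply, MulAut.one_apply] at h2
      rw [mul_inv_eq_iff_eq_mul] at h2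
      exact h2.symm
    rw [hc] at h1
    exact h1
  have h1 := Nat.card_le_card_of_injective _ hinj
  rw [hcard, ← X.card_mul_index, mul_comm 2] at h1
  have h2 := Nat.le_of_mul_le_mul_left h1 Nat.card_pos
  have h3 : X.index ≠ 0 := Subgroup.index_ne_zero_of_finite
  omega

theorem center_congr {B C : Type*} [Group B] [Group C] (e : B ≃* C) : Nonempty (center B ≃* center C) := by
  have hcm : (center B).map e.toMonoidHom = center C := by
    ext x
    rw [mem_map, mem_center_iff]
    constructor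
    · rintro ⟨a, ha, rfl⟩ y
      obtain ⟨y, rfl⟩ := e.surjective y
      change e y * e a = e a * e y
      rw [← map_mul, ← map_mul, mem_center_iff.1 ha y]
    · intro h
      refine ⟨e.symm x, ?_, e.apply_symm_apply x⟩
      rw [mem_center_iff]
      intro y
      apply e.injective
      rw [map_mul, map_mul, e.apply_symm_apply]
      exact h (e y)
  exact ⟨((center B).equivMapOfInjective e.toMonoidHom e.injective).trans (MulEquiv.subgroupCongr hcm)⟩

variable {G : Type u} [Group G] [Finite G] {A : Subgroup G}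

/-- the Held case -/
theorem he_center {A : Subgroup G} (hA : IsStandardSubgroup A) (hO : oddCore G = ⊥) (hR : ¬ PRankLE 2 1 ↥(centralizer (A : Set G)))
    (hnn : ¬ A.Normal) (hc : Nat.card (↥A ⧸ center ↥A) = 20160) (hZ : center ↥A ≠ ⊥)
    (hHe : Spor.IsoHe ↥(normalClosure (A : Set G))) (hcl : centralizer (normalClosure (A : Set G) : Set G) = ⊥) :
    IsKleinFour ↥(center ↥A) := by
  have hi := he_index normalClosure_normal hHe hcl
  obtain ⟨⟨x, hx⟩, ⟨y, hy⟩, hxx, hyy, hxy, hx1, hy1, hne⟩ := exists_four hR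
  have hxx' : x * x = 1 := congrArg Subtype.val hxx
  have hyy' : y * y = 1 := congrArg Subtype.val hyy
  have hxy' : x * y = y * x := congrArg Subtype.val hxy
  have hx1' : x ≠ 1 := fun h => hx1 (Subtype.ext h)
  have hy1' : y ≠ 1 := fun h => hy1 (Subtype.ext h)
  have hne' : x * y ≠ 1 := by
    intro h
    apply hne
    apply Subtype.ext
    exact (eq_inv_of_mul_eq_one_left h).trans (inv_eq_of_mul_eq_one_right hyy')
  have key : ∀ w ∈ normalClosure (A : Set G), w ∈ centralizer (A : Set G) → w * w = 1 → w ≠ 1 →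
      IsKleinFour ↥(center ↥A) := by
    intro w hw hwA hww hw1
    have hle : A ≤ normalClosure (A : Set G) := subset_normalClosure
    have e : ↥(A.subgroupOf (normalClosure (A : Set G))) ≃* ↥A := subgroupOfEquivOfLe hle
    have hnt : Nontrivial ↥A := by
      rw [Subgroup.nontrivial_iff_ne_bot]
      rintro rfl
      exact hnn inferInstance
    have : Nontrivial ↥(A.subgroupOf (normalClosure (A : Set G))) := e.toEquiv.nontrivial
    obtain ⟨ec⟩ := center_congr e
    obtain ⟨eq⟩ := CpQuot.Quo.nonempty_equiv hA.1 e.symm.toMonoidHom e.symm.surjective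
    refine klein_congr ec (he_klein hHe (CpQuot.Quo.quasisimple hA.1 e.symm.toMonoidHom e.symm.surjective) ?_ ?_
      (w := ⟨w, hw⟩) (Subtype.ext hww) (fun h => hw1 (congrArg Subtype.val h)) ?_)
    · rw [← Nat.card_congr eq.toEquiv, hc]
    · intro h
      apply hZ
      have hs : Subsingleton (center ↥(A.subgroupOf (normalClosure (A : Set G)))) := by rw [h]; infer_instance
      have : Subsingleton (center ↥A) := ec.symm.toEquiv.subsingleton
      exact Subgroup.eq_bot_of_subsingleton _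
    · intro a ha
      rw [mem_centralizer_singleton_iff]
      apply Subtype.ext
      exact mem_centralizer_iff.1 hwA _ ha
  rcases mem_of_index_le hi x y with h | h | h
  · exact key x h hx hxx' hx1'
  · exact key y h hy hyy' hy1'
  · refine key _ h (mul_mem hx hy) ?_ hne'
    rw [mul_assoc, ← mul_assoc y, ← hxy', mul_assoc, hyy', mul_one, hxx']

/-- **S3141** -/
theorem main {G : Type u} [Group G] [Finite G] (A : Subgroup G) (hA : Cfsg.IsStandardSubgroup A)
    (hR : ¬ Cfsg.PRankLE 2 1 ↥(Subgroup.centralizer (A : Set G)))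
    {F : Type v} [Field F] [Fintype F] (hF : Fintype.card F = 4)
    (hAX : Nonempty ((↥A ⧸ Subgroup.center ↥A) ≃* Matrix.ProjectiveSpecialLinearGroup (Fin 3) F) ∨
      Nonempty ((↥A ⧸ Subgroup.center ↥A) ≃* ↥(Cfsg.Lie.chevG2.group F))) :
    A.Normal ∨
      (Nonempty (↥A ≃* ↥(Cfsg.Lie.chevG2.group F)) ∧ Cfsg.Spor.IsoCo1 ↥(Subgroup.normalClosure (A : Set G))) ∨
      ((Nonempty (↥A ≃* Matrix.ProjectiveSpecialLinearGroup (Fin 3) F) ∨ Nonempty (↥A ≃* Matrix.SpecialLinearGroup (Fin 3) F)) ∧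
        (Cfsg.Spor.IsoSuz ↥(Subgroup.normalClosure (A : Set G)) ∨
          ∃ (N : Subgroup ↥(Subgroup.normalClosure (A : Set G))) (_ : N.Normal), Nat.card ↥N = 3 ∧
            Cfsg.Spor.IsoSuz (↥(Subgroup.normalClosure (A : Set G)) ⧸ N))) ∨
      (Nonempty ((↥A ⧸ Subgroup.center ↥A) ≃* Matrix.ProjectiveSpecialLinearGroup (Fin 3) F) ∧ IsKleinFour ↥(Subgroup.center ↥A) ∧
        Cfsg.Spor.IsoHe ↥(Subgroup.normalClosure (A : Set G))) := by
  -- orders
  have hcard : (Nonempty ((↥A ⧸ Subgroup.center ↥A) ≃* Matrix.ProjectiveSpecialLinearGroup (Fin 3) F) ∧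
        Nat.card (↥A ⧸ center ↥A) = 20160) ∨
      (Nonempty ((↥A ⧸ Subgroup.center ↥A) ≃* ↥(Cfsg.Lie.chevG2.group F)) ∧
        Nat.card (↥A ⧸ center ↥A) = 251596800) := by
    rcases hAX with h | h
    · exact Or.inl ⟨h, by obtain ⟨e⟩ := h; rw [Nat.card_congr e.toEquiv]; exact card_psl hF⟩
    · exact Or.inr ⟨h, by obtain ⟨e⟩ := h; rw [Nat.card_congr e.toEquiv]; exact card_g2 hF⟩
  have hAe : ¬ A ≤ oddCore G := by
    intro h
    have h1 : Odd (Nat.card ↥A) := (H300.StdOdd.odd_oddCore (G := G)).of_dvd_nat (card_dvd_of_le h)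
    have h2 : Odd (Nat.card (↥A ⧸ center ↥A)) := h1.of_dvd_nat (Subgroup.card_quotient_dvd_card _)
    rcases hcard with ⟨-, h3⟩ | ⟨-, h3⟩ <;> rw [h3] at h2 <;> exact absurd h2 (by decide)
  have hAY := le_centralizer hA hAe hR
  have hb : Bar A := ⟨hA, hR, hAY, hAe⟩
  have hstd := H300.StdOdd.isStandard_map hA hAY hAe
  have hR' := not_rank_map hA hAY hR
  have hO' : oddCore (G ⧸ oddCore G) = ⊥ := Lib.PComponents.pPrimeCore_quotient_eq_bot 2
  have hB' : HasStrongBProperty (G ⧸ oddCore G) := fun _ _ _ => S1726.result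
  obtain ⟨ec⟩ := hb.equiv_center
  have hK : IsKnownSimple' (↥(Im A) ⧸ Subgroup.center ↥(Im A)) := by
    have := hstd.1.2
    exact S0000.result
  by_cases hnn : (Im A).Normal
  · exact Or.inl (hb.normal hnn)
  have hdvd := hb.card_dvd
  rcases S3092.result hO' hB' (Im A) hstd hK hR' with h | ⟨n, hn, ⟨e⟩, -⟩ | ⟨F', _, _, hF', ⟨e⟩, -⟩ |
    ⟨F', _, _, hF', ⟨e⟩, hS⟩ | ⟨F', _, _, hF', hZ, ⟨e⟩, hS⟩ | ⟨F', _, _, hF', ⟨e⟩, -⟩ | ⟨F', _, _, hF', ⟨e⟩, hS⟩
  · exact absurd h hnn
  · exfalso
    have hs : IsSimpleGroup ↥(alternatingGroup (Fin n)) := alternatingGroup.isSimpleGroup (by simpa using hn)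
    have hs' : IsSimpleGroup ↥(Im A) := e.isSimpleGroup
    have hz := StdRed.center_eq_bot_of_simple hs'
      (SignalizersComponents.Components.quasisimple_not_isMulCommutative hstd.1)
    have e1 : (↥A ⧸ center ↥A) ≃* ↥(alternatingGroup (Fin n)) :=
      ec.trans (((QuotientGroup.quotientMulEquivOfEq hz).trans QuotientGroup.quotientBot).trans e)
    exact not_alt hF hAX hn e1
  · exfalso
    have h60 : Nat.card ↥(Im A) = 60 := by
      rw [Nat.card_congr e.toEquiv]
      exact (S0810.card_eq_sixty_iff F').2 (Or.inl hF')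
    rw [h60] at hdvd
    rcases hcard with ⟨-, h3⟩ | ⟨-, h3⟩ <;> rw [h3] at hdvd <;> exact absurd hdvd (by decide)
  · -- `Suz`
    have h20160 : Nat.card ↥(Im A) = 20160 := by
      rw [Nat.card_congr e.toEquiv]
      exact card_psl hF'
    rw [h20160] at hdvd
    rcases hcard with ⟨hP, h3⟩ | ⟨-, h3⟩
    · right; right; left
      have h6 := hb.card_dvd_mult (by norm_num) S2048.result hS
      have hodd := Bar.odd_K (A := A)
      have h13 : Nat.card ↥(Bar.K A) = 1 ∨ Nat.card ↥(Bar.K A) = 3 := by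
        have h7 : Nat.card ↥(Bar.K A) ≤ 6 := Nat.le_of_dvd (by norm_num) h6
        have h8 : 0 < Nat.card ↥(Bar.K A) := Nat.card_pos
        generalize Nat.card ↥(Bar.K A) = k at h6 hodd h7 h8
        interval_cases k
        · exact Or.inl rfl
        · exact absurd hodd (by decide)
        · exact Or.inr rfl
        · exact absurd hodd (by decide)
        · exact absurd h6 (by decide)
        · exact absurd hodd (by decide)
      have hKA : Nat.card ↥(Bar.KA A) = 1 ∨ Nat.card ↥(Bar.KA A) = 3 := by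
        have h9 := Bar.card_KA_dvd (A := A)
        rcases h13 with h | h
        · rw [h] at h9; exact Or.inl (Nat.dvd_one.1 h9)
        · rw [h] at h9; exact (Nat.dvd_prime Nat.prime_three).1 h9
      obtain ⟨ep⟩ := psl_congr hF' hF
      obtain ⟨eq⟩ := hb.quotA
      refine ⟨psl_or_sl hA.1.1.commutator_eq_top (Bar.KA A) Bar.KA_normal hb.KA_central hKA hF
        ⟨eq.trans (e.trans ep)⟩, ?_⟩
      rcases h13 with h | h
      · left
        obtain ⟨⟨f⟩, -⟩ := hb.equiv_of_bot h
        obtain ⟨g⟩ := hS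
        exact ⟨f.trans g⟩
      · right
        obtain ⟨f⟩ := hb.quot
        obtain ⟨g⟩ := hS
        exact ⟨Bar.K A, Bar.K_normal, h, ⟨f.trans g⟩⟩
    · exfalso
      rw [h3] at hdvd
      exact absurd hdvd (by decide)
  · -- `He`
    have h20160 : Nat.card (↥(Im A) ⧸ center ↥(Im A)) = 20160 := by
      rw [Nat.card_congr e.toEquiv]
      exact card_psl hF'
    obtain ⟨ep⟩ := psl_congr hF' hF
    have hP : Nonempty ((↥A ⧸ Subgroup.center ↥A) ≃* Matrix.ProjectiveSpecialLinearGroup (Fin 3) F) :=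
      ⟨ec.trans (e.trans ep)⟩
    right; right; right
    have h1 := Nat.dvd_one.1 (hb.card_dvd_mult one_ne_zero S2049.result hS)
    obtain ⟨⟨f⟩, ⟨g⟩⟩ := hb.equiv_of_bot h1
    obtain ⟨⟨x, hx⟩, -, hxx, -, -, hx1, -, -⟩ := exists_four hR
    have hx2 : orderOf x = 2 := orderOf_eq_prime (by rw [pow_two]; exact congrArg Subtype.val hxx)
      (fun h => hx1 (Subtype.ext h))
    obtain ⟨hmap, hcl⟩ := H300.StdOdd.map_normalClosure hA hAY hAe hx2 hx hnn
    rw [← hmap, map_nc] at hcl
    have hk := he_center hstd hO' hR' hnn h20160 hZ hS hcl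
    obtain ⟨eg⟩ := center_congr g.symm
    refine ⟨hP, klein_congr eg hk, ?_⟩
    obtain ⟨k⟩ := hS
    exact ⟨f.trans k⟩
  · exfalso
    have h1 : Nat.card ↥(Im A) = 29120 := by
      rw [Nat.card_congr e.toEquiv]
      have := (S1163.result (F := F') (m := 1) le_rfl (by rw [hF']; norm_num)).1
      norm_num at this
      exact this
    rw [h1] at hdvd
    rcases hcard with ⟨-, h3⟩ | ⟨-, h3⟩ <;> rw [h3] at hdvd <;> exact absurd hdvd (by decide)
  · -- `Co1`
    right; left
    obtain ⟨eg⟩ := g2_congr hF' hF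
    have hodd := Bar.odd_K (A := A)
    have h2 := hb.card_dvd_mult two_ne_zero S2043.result hS
    have h1 : Nat.card ↥(Bar.K A) = 1 := by
      rcases (Nat.dvd_prime Nat.prime_two).1 h2 with h | h
      · exact h
      · rw [h] at hodd; exact absurd hodd (by decide)
    obtain ⟨⟨f⟩, ⟨g⟩⟩ := hb.equiv_of_bot h1
    obtain ⟨k⟩ := hS
    exact ⟨⟨g.trans (e.trans eg)⟩, ⟨f.trans k⟩⟩

end Cfsg.Agent.H295.LG
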