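import Mathlib
import Cfsg.Prelude.Def_CaseTheorems
import Cfsg.Prelude.Def_KGroupFacts
import Cfsg.Agent.H300.StdOdd
import Cfsg.Agent.Lib.KleinGen
import Cfsg.Agent.AschComp.Base
import Cfsg.Agent.CpQuot.Quo
import Cfsg.Agent.H487.SchurMult

/-!
# Standard subgroups with a centralizer of 2-rank at least 2, modulo `O(G)` (helper295)
-/

set_option autoImplicit false
set_option linter.unusedSectionVars false

namespace Cfsg.Agent.H295.LG

open Subgroup Cfsg
open scoped commutatorElement

universe u v w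

theorem exists_four {C : Type*} [Group C] [Finite C] (h : ¬ PRankLE 2 1 C) :
    ∃ x y : C, x * x = 1 ∧ y * y = 1 ∧ x * y = y * x ∧ x ≠ 1 ∧ y ≠ 1 ∧ x ≠ y := by
  classical
  unfold PRankLE at h
  push Not at h
  obtain ⟨E, hE, h2, hc⟩ := h
  have hmul : ∀ x ∈ E, x * x = 1 := fun x hx => by rw [← pow_two]; exact h2 x hx
  have hcard : 2 < Nat.card E := by simpa using hc
  have hcomm : ∀ x ∈ E, ∀ y ∈ E, x * y = y * x := by
    intro x hx y hy
    exact congrArg Subtype.val (hE.is_comm.comm (⟨x, hx⟩ : E) ⟨y, hy⟩)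
  have hF := Fintype.ofFinite E
  rw [Nat.card_eq_fintype_card] at hcard
  obtain ⟨a, b, c, hab, hac, hbc⟩ := Fintype.two_lt_card_iff.1 hcard
  have key : ∀ a b c : E, a ≠ b → a ≠ c → b ≠ c → a = 1 →
      ∃ x y : C, x * x = 1 ∧ y * y = 1 ∧ x * y = y * x ∧ x ≠ 1 ∧ y ≠ 1 ∧ x ≠ y := by
    rintro a b c hab hac hbc rfl
    refine ⟨b, c, hmul _ b.2, hmul _ c.2, hcomm _ b.2 _ c.2, ?_, ?_, ?_⟩
    · intro h; exact hab (Subtype.ext h.symm)
    · intro h; exact hac (Subtype.ext h.symm)
    · intro h; exact hbc (Subtype.ext h)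
  by_cases ha : a = 1
  · exact key a b c hab hac hbc ha
  · by_cases hb : b = 1
    · exact key b a c hab.symm hbc hac hb
    · refine ⟨a, b, hmul _ a.2, hmul _ b.2, hcomm _ a.2 _ b.2, ?_, ?_, ?_⟩
      · intro h; exact ha (Subtype.ext h)
      · intro h; exact hb (Subtype.ext h)
      · intro h; exact hab (Subtype.ext h)

variable {G : Type*} [Group G] [Finite G] {A : Subgroup G}

/-- elements of `O(G)` commuting with an involution of `C(A)` centralize `A` -/
theorem cent_of_fix (hA : IsStandardSubgroup A) (hAe : ¬ A ≤ oddCore G) {t : G} (ht : t * t = 1) (ht1 : t ≠ 1)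
    (htA : t ∈ centralizer (A : Set G)) : oddCore G ⊓ centralizer {t} ≤ centralizer (A : Set G) := by
  have hYn : (oddCore G).Normal := Lib.Cores.pPrimeCore_normal 2
  have ht2 : orderOf t = 2 := orderOf_eq_prime (by rw [pow_two]; exact ht) ht1
  have hN := SignalizersComponents.StandardTrichotomy.centralizer_involution_le hA ht2 htA
  have hperf : Group.IsPerfect A := hA.1.1
  have hAY : A ⊓ oddCore G ≤ centralizer (A : Set G) := by
    have hn : ((oddCore G).subgroupOf A).Normal := hYn.subgroupOf A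
    rcases SignalizersComponents.Components.quasisimple_normal hA.1 _ hn with h | h
    · exact absurd (subgroupOf_eq_top.1 h) hAe
    · intro x hx
      have h1 : (⟨x, hx.1⟩ : A) ∈ center A := h (by rw [mem_subgroupOf]; exact hx.2)
      rw [mem_centralizer_iff]
      intro a ha
      exact congrArg Subtype.val (mem_center_iff.1 h1 ⟨a, ha⟩)
  have h1 : ⁅oddCore G ⊓ centralizer ({t} : Set G), A⁆ ≤ A ⊓ oddCore G := by
    rw [commutator_le]
    intro y hy a ha
    refine ⟨?_, ?_⟩
    · rw [commutatorElement_def]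
      exact A.mul_mem ((mem_normalizer_iff.1 (hN hy.2) a).1 ha) (A.inv_mem ha)
    · rw [commutatorElement_def, mul_assoc, mul_assoc, ← mul_assoc a]
      exact (oddCore G).mul_mem hy.1 (hYn.conj_mem _ ((oddCore G).inv_mem hy.1) a)
  have h2 : ⁅⁅oddCore G ⊓ centralizer ({t} : Set G), A⁆, A⁆ = ⊥ := by
    rw [commutator_eq_bot_iff_le_centralizer]
    exact h1.trans hAY
  have h3 := SignalizersComponents.Components.commutator_eq_bot_of_commutator_commutator_eq_bot hperf h2
  rwa [commutator_eq_bot_iff_le_centralizer] at h3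

/-- **`A` centralizes `O(G)`** if `C(A)` contains a four-group -/
theorem le_centralizer (hA : IsStandardSubgroup A) (hAe : ¬ A ≤ oddCore G)
    (hR : ¬ PRankLE 2 1 ↥(centralizer (A : Set G))) : A ≤ centralizer (oddCore G : Set G) := by
  have hYn : (oddCore G).Normal := Lib.Cores.pPrimeCore_normal 2
  obtain ⟨⟨x, hx⟩, ⟨y, hy⟩, hxx, hyy, hxy, hx1, hy1, hne⟩ := exists_four hR
  have hxx' : x * x = 1 := congrArg Subtype.val hxx
  have hyy' : y * y = 1 := congrArg Subtype.val hyy
  have hxy' : x * y = y * x := congrArg Subtype.val hxy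
  have hx1' : x ≠ 1 := fun h => hx1 (Subtype.ext h)
  have hy1' : y ≠ 1 := fun h => hy1 (Subtype.ext h)
  have hne' : x * y ≠ 1 := by
    intro h
    apply hne
    apply Subtype.ext
    exact (eq_inv_of_mul_eq_one_left h).trans (inv_eq_of_mul_eq_one_right hyy')
  rw [← le_centralizer_iff]
  refine Lib.KleinGen.le_of_klein _ _ H300.StdOdd.odd_oddCore x y hxx' hyy' hxy' (fun h hh => hYn.conj_mem h hh x)
    (fun h hh => hYn.conj_mem h hh y) (cent_of_fix hA hAe hxx' hx1' hx) (cent_of_fix hA hAe hyy' hy1' hy)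
    (cent_of_fix hA hAe ?_ hne' (mul_mem hx hy))
  rw [mul_assoc, ← mul_assoc y, ← hxy', mul_assoc, hyy', mul_one, hxx']

theorem odd_eq_one {x : G} (hx : x * x = 1) (hxO : x ∈ oddCore G) : x = 1 := by
  have h2 := H300.CoprimeInv.eq_one_of_pow_two (V := oddCore G) H300.StdOdd.odd_oddCore (x := ⟨x, hxO⟩) (k := 1)
    (Subtype.ext (by push_cast; rw [pow_two]; exact hx))
  exact congrArg Subtype.val h2

/-- the centralizer modulo `O(G)` still contains a four-group -/
theorem not_rank_map (hA : IsStandardSubgroup A) (hAY : A ≤ centralizer (oddCore G : Set G))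
    (hR : ¬ PRankLE 2 1 ↥(centralizer (A : Set G))) :
    ¬ PRankLE 2 1 ↥(centralizer ((A.map (QuotientGroup.mk' (oddCore G)) : Subgroup (G ⧸ oddCore G)) :
      Set (G ⧸ oddCore G))) := by
  obtain ⟨⟨x, hx⟩, ⟨y, hy⟩, hxx, hyy, hxy, hx1, hy1, hne⟩ := exists_four hR
  have hxx' : x * x = 1 := congrArg Subtype.val hxx
  have hyy' : y * y = 1 := congrArg Subtype.val hyy
  have hxy' : x * y = y * x := congrArg Subtype.val hxy
  have hx1' : x ≠ 1 := fun h => hx1 (Subtype.ext h)
  have hy1' : y ≠ 1 := fun h => hy1 (Subtype.ext h)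
  have hmem : ∀ z ∈ centralizer (A : Set G), QuotientGroup.mk' (oddCore G) z ∈
      centralizer ((A.map (QuotientGroup.mk' (oddCore G)) : Subgroup (G ⧸ oddCore G)) : Set (G ⧸ oddCore G)) := by
    intro z hz
    rw [← mem_comap, H300.StdOdd.comap_centralizer hA hAY]
    exact hz
  have hord : ∀ z : G, z * z = 1 → z ≠ 1 → orderOf (QuotientGroup.mk' (oddCore G) z) = 2 := by
    intro z hz hz1
    apply orderOf_eq_prime
    · rw [← map_pow, pow_two, hz, map_one]
    · intro h
      exact hz1 (odd_eq_one hz ((QuotientGroup.eq_one_iff z).1 h))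
  intro h
  have h1 := AschComp.eq_of_comm h (hmem x hx) (hmem y hy) (hord x hxx' hx1') (hord y hyy' hy1')
    (by rw [← map_mul, ← map_mul, hxy'])
  have h2 : x⁻¹ * y ∈ oddCore G := QuotientGroup.eq.1 h1
  have h3 : x⁻¹ * y = 1 := by
    refine odd_eq_one ?_ h2
    have hxi : x⁻¹ = x := inv_eq_of_mul_eq_one_right hxx'
    rw [hxi, mul_assoc, ← mul_assoc y, ← hxy', mul_assoc, hyy', mul_one, hxx']
  exact hne (Subtype.ext (inv_mul_eq_one.1 h3))

/-- the kernel of a perfect central extension has order dividing the order of a cyclic multiplier -/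
theorem card_dvd_of_mult {Q : Type u} [Group Q] {n : ℕ} (hn : n ≠ 0) (h : HasCyclicSchurMultiplier Q n)
    {X : Type v} [Group X] [Finite X] (hX : _root_.commutator X = ⊤) (N : Subgroup X) [N.Normal] (hN : N ≤ center X)
    (e : Nonempty ((X ⧸ N) ≃* Q)) : Nat.card N ∣ n := by
  obtain ⟨e⟩ := e
  have h' : HasSchurMultiplier (X ⧸ N) (Multiplicative (ZMod n)) := H487.HasSchurMultiplier.congr_left h e.symm
  have hk : (QuotientGroup.mk' N).ker = N := QuotientGroup.ker_mk' N
  obtain ⟨π, hπ⟩ := h'.2 X (QuotientGroup.mk' N) ⟨QuotientGroup.mk'_surjective N, by rw [hk]; exact hN,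
    by rw [hX]; exact le_top⟩
  have : NeZero n := ⟨hn⟩
  have h1 := Subgroup.card_dvd_of_surjective π hπ
  rw [hk] at h1
  have h2 : Nat.card (Multiplicative (ZMod n)) = n := by
    rw [Nat.card_congr Multiplicative.toAdd, Nat.card_zmod]
  rwa [h2] at h1

/-- `Y / (Y ∩ O(G))` is the image of `Y` modulo `O(G)` -/
theorem quot_equiv (Y : Subgroup G) [((oddCore G).subgroupOf Y).Normal] :
    Nonempty ((↥Y ⧸ (oddCore G).subgroupOf Y) ≃* ↥(Y.map (QuotientGroup.mk' (oddCore G)))) := by
  have hk : ((QuotientGroup.mk' (oddCore G)).subgroupMap Y).ker = (oddCore G).subgroupOf Y := by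
    ext x
    rw [MonoidHom.mem_ker, mem_subgroupOf]
    constructor
    · intro h
      exact (QuotientGroup.eq_one_iff _).1 (congrArg Subtype.val h)
    · intro h
      exact Subtype.ext ((QuotientGroup.eq_one_iff _).2 h)
  exact ⟨(QuotientGroup.quotientMulEquivOfEq hk.symm).trans (QuotientGroup.quotientKerEquivOfSurjective _
    ((QuotientGroup.mk' (oddCore G)).subgroupMap_surjective Y))⟩

theorem map_nc : (normalClosure (A : Set G)).map (QuotientGroup.mk' (oddCore G)) =
    normalClosure ((A.map (QuotientGroup.mk' (oddCore G)) : Subgroup (G ⧸ oddCore G)) : Set (G ⧸ oddCore G)) := by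
  rw [Subgroup.map_normalClosure _ _ (QuotientGroup.mk'_surjective _), Subgroup.coe_map]

theorem perfect_nc (hA : Group.IsPerfect A) : _root_.commutator ↥(normalClosure (A : Set G)) = ⊤ := by
  have h1 : ⁅normalClosure (A : Set G), normalClosure (A : Set G)⁆ = normalClosure (A : Set G) := by
    apply le_antisymm
    · exact commutator_le_left _ _
    · apply normalClosure_le_normal
      have h2 : ⁅A, A⁆ = A := Subgroup.isPerfect_iff.mp hA
      have h3 : A ≤ normalClosure (A : Set G) := subset_normalClosure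
      have h4 := commutator_mono h3 h3
      rw [h2] at h4
      exact h4
  exact (Subgroup.isPerfect_iff.mpr h1).commutator_eq_top

theorem nc_central (hAY : A ≤ centralizer (oddCore G : Set G)) :
    (oddCore G).subgroupOf (normalClosure (A : Set G)) ≤ center ↥(normalClosure (A : Set G)) := by
  have hYn : (oddCore G).Normal := Lib.Cores.pPrimeCore_normal 2
  have hCn : (centralizer (oddCore G : Set G)).Normal := inferInstance
  have h1 : normalClosure (A : Set G) ≤ centralizer (oddCore G : Set G) := normalClosure_le_normal hAY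
  intro x hx
  rw [mem_subgroupOf] at hx
  rw [mem_center_iff]
  intro y
  apply Subtype.ext
  exact (mem_centralizer_iff.1 (h1 y.2) x hx).symm

end Cfsg.Agent.H295.LG
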