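import Cfsg.Agent.S1347
import Cfsg.Agent.H295.A7Fin

/-!
# Reduction of standard subgroups (helper295)

`G` finite, `O(G) = 1`, `A` standard in `G`: `A` is normal; or the normal closure of `A` is `A × A`, `Z(A) = 1`; or
`F*(G)` is simple, nonabelian.
-/

set_option autoImplicit false

namespace Cfsg.Agent.H295.StdRed

open Subgroup Cfsg Cfsg.Agent.SignalizersComponents Cfsg.Agent.SignalizersComponents.Components
open scoped commutatorElement

variable {G : Type*} [Group G] [Finite G] {A : Subgroup G}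

theorem exists_inv (hA : IsStandardSubgroup A) : ∃ t ∈ centralizer (A : Set G), orderOf t = 2 := by
  have : Fact (Nat.Prime 2) := ⟨Nat.prime_two⟩
  obtain ⟨t, ht⟩ := exists_prime_orderOf_dvd_card' 2 hA.2.1.1.two_dvd
  exact ⟨t, t.2, by rw [Subgroup.orderOf_coe, ht]⟩

theorem center_eq_bot_of_normal (hO : oddCore G = ⊥) (hn : A.Normal) (hZ : Odd (Nat.card ↥(center ↥A))) :
    center ↥A = ⊥ := by
  have h1 : ((center ↥A).map A.subtype).Normal := ConjAct.normal_of_characteristic_of_normal
  have h2 : (center ↥A).map A.subtype ≤ pPrimeCore 2 G := by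
    refine (Lib.Cores.le_pPrimeCore_iff h1).2 ?_
    rw [Subgroup.card_map_of_injective A.subtype_injective]
    exact Nat.coprime_two_right.2 hZ
  have h3 : pPrimeCore 2 G = ⊥ := hO
  rw [h3, le_bot_iff, Subgroup.map_eq_bot_iff_of_injective _ A.subtype_injective] at h2
  exact h2

theorem center_eq_bot_of_simple {S : Type*} [Group S] (hs : IsSimpleGroup S) (hna : ¬ IsMulCommutative S) :
    center S = ⊥ := by
  rcases (inferInstance : (center S).Normal).eq_bot_or_eq_top with h | h
  · exact h
  · exfalso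
    apply hna
    refine ⟨⟨fun a b => ?_⟩⟩
    have ha : a ∈ center S := by rw [h]; exact mem_top a
    exact ((mem_center_iff.1 ha) b).symm

/-- **The reduction** -/
theorem red (hO : oddCore G = ⊥) (hA : IsStandardSubgroup A) :
    A.Normal ∨ (IsSimpleGroup ↥A ∧ ¬ IsMulCommutative ↥A ∧
        Nonempty (↥(normalClosure (A : Set G)) ≃* ↥A × ↥A)) ∨
      (IsSimpleGroup ↥(generalizedFittingSubgroup G) ∧ ¬ IsMulCommutative ↥(generalizedFittingSubgroup G)) := by
  obtain ⟨t, htA, ht⟩ := exists_inv hA
  by_cases hn : A.Normal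
  · exact Or.inl hn
  have h2 : pCore 2 G = ⊥ := by
    by_contra h
    exact hn (StandardTrichotomy.normal_of_pCore_ne_bot hA ht htA h)
  have hF : fittingSubgroup G = ⊥ := by
    have := CompOrbit.fittingSubgroup_le_pCore (p := 2) hO
    rw [h2] at this
    exact le_bot_iff.mp this
  have h3 : generalizedFittingSubgroup G = layer G := by
    show layer G ⊔ fittingSubgroup G = layer G
    rw [hF, sup_bot_eq]
  have hC := StandardTrichotomy.centralizer_layer_eq_bot hO h2
  have hAE : A ≤ layer G := S1347.le_layer hA hO t ht htA hC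
  rcases S1347.result A hA hO t ht htA with h | ⟨Y, hY, hYn, ⟨e⟩, hcomm, hinf, hsup, -⟩ | ⟨-, h4, h5⟩
  · exact absurd h hn
  · right; left
    have hsA : IsSimpleGroup ↥A := e.symm.isSimpleGroup
    have hnA : ¬ IsMulCommutative ↥A := quasisimple_not_isMulCommutative hA.1
    refine ⟨hsA, hnA, ?_⟩
    have hna : ∃ a ∈ A, ∃ b ∈ A, a * b ≠ b * a := by
      by_contra hcon
      push Not at hcon
      exact hnA ⟨⟨fun a b => Subtype.ext (hcon a a.2 b b.2)⟩⟩
    obtain ⟨-, ⟨f⟩⟩ := Fin.swap_case (layer_normal G) hY hna htA hAE hcomm hinf hsup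
    exact ⟨f.trans (e.prodCongr e)⟩
  · right; right
    rw [h3]
    exact ⟨h4, h5⟩

end Cfsg.Agent.H295.StdRed
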